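import Cfsg.Agent.Lib.SzChars.Bounds
import Cfsg.Agent.Lib.Characters.Linear

/-!
Criteria for an element to be a product of two conjugates of a real element.
-/

set_option autoImplicit false
set_option linter.unusedSectionVars false

namespace Cfsg.Agent.Lib.ReeCover50.Estimate

open Cfsg.Agent.Lib.Characters.Basic
open scoped ComplexConjugate Classical

universe u

variable {G : Type u} [Group G] [Fintype G]

/-- The trivial character. -/
noncomputable def triv : Cfsg.IrrCharacter G := Cfsg.Agent.Lib.Characters.Linear.linChar 1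

lemma triv_apply (g : G) : ((triv : Cfsg.IrrCharacter G) : G → ℂ) g = 1 := rfl

/-- The degree as a real number. -/
noncomputable def deg (χ : Cfsg.IrrCharacter G) : ℝ := ((χ : G → ℂ) 1).re

/-- The summand of the structure constant. -/
noncomputable def part (x g : G) (χ : Cfsg.IrrCharacter G) : ℝ :=
  Complex.normSq ((χ : G → ℂ) x) * ((χ : G → ℂ) g).re / deg χ

lemma deg_spec (χ : Cfsg.IrrCharacter G) : 0 < deg χ ∧ (χ : G → ℂ) 1 = (deg χ : ℂ) := by
  obtain ⟨d, hd, -, h⟩ := Cfsg.Agent.Lib.Characters.Degree.exists_degree_dvd χ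
  simp [deg, h, hd]

theorem product_of_pos [Fintype (Cfsg.IrrCharacter G)] {x g : G} (hx : IsConj x x⁻¹)
    (h : 0 < ∑ χ : Cfsg.IrrCharacter G, part x g χ) :
    ∃ u v : G, g = (u * x * u⁻¹) * (v * x * v⁻¹) := by
  refine Cfsg.Agent.Lib.SzChars.Bounds.exists_product x g fun h0 => h.ne' ?_
  have h1 := congrArg Complex.re h0
  rw [Complex.re_sum, Complex.zero_re] at h1
  rw [← h1]
  refine Finset.sum_congr rfl fun χ _ => ?_
  have hr : conj ((χ : G → ℂ) x) = (χ : G → ℂ) x := by
    rw [← apply_inv (isCharacter_irr χ), classFunction_apply_of_isConj (isClassFunction_irr χ) hx.symm]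
  have e : (χ : G → ℂ) x * (χ : G → ℂ) x = (Complex.normSq ((χ : G → ℂ) x) : ℂ) := by
    rw [← Complex.mul_conj, hr]
  rw [e, (deg_spec χ).2, part, Complex.div_ofReal_re, Complex.re_ofReal_mul, Complex.conj_re]

theorem sum_normSq [Fintype (Cfsg.IrrCharacter G)] (x : G) :
    ∑ χ : Cfsg.IrrCharacter G, Complex.normSq ((χ : G → ℂ) x) = Nat.card (Subgroup.centralizer ({x} : Set G)) := by
  have h := Cfsg.Agent.Lib.Characters.Complete.sum_irr_mul_conj x x
  rw [if_pos (IsConj.refl x)] at h
  simp only [Complex.mul_conj] at h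
  exact_mod_cast h

theorem normSq_le [Fintype (Cfsg.IrrCharacter G)] (χ : Cfsg.IrrCharacter G) (g : G) :
    Complex.normSq ((χ : G → ℂ) g) ≤ Nat.card (Subgroup.centralizer ({g} : Set G)) := by
  rw [← sum_normSq g]
  exact Finset.single_le_sum (f := fun χ : Cfsg.IrrCharacter G => Complex.normSq ((χ : G → ℂ) g))
    (fun _ _ => Complex.normSq_nonneg _) (Finset.mem_univ χ)

theorem abs_re_le [Fintype (Cfsg.IrrCharacter G)] (χ : Cfsg.IrrCharacter G) (g : G) {B : ℝ} (hB0 : 0 ≤ B)
    (hB : (Nat.card (Subgroup.centralizer ({g} : Set G)) : ℝ) ≤ B ^ 2) : |((χ : G → ℂ) g).re| ≤ B := by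
  refine abs_le_of_sq_le_sq (le_trans ?_ ((normSq_le χ g).trans hB)) hB0
  rw [Complex.normSq_apply, sq]
  nlinarith [mul_self_nonneg ((χ : G → ℂ) g).im]

theorem split_triv [Fintype (Cfsg.IrrCharacter G)] (f : Cfsg.IrrCharacter G → ℝ) :
    ∑ χ, f χ = f triv + ∑ χ ∈ (Finset.univ : Finset (Cfsg.IrrCharacter G)).erase triv, f χ :=
  (Finset.add_sum_erase _ _ (Finset.mem_univ _)).symm

theorem sum_erase_normSq [Fintype (Cfsg.IrrCharacter G)] (x : G) :
    ∑ χ ∈ (Finset.univ : Finset (Cfsg.IrrCharacter G)).erase triv, Complex.normSq ((χ : G → ℂ) x) =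
      (Nat.card (Subgroup.centralizer ({x} : Set G)) : ℝ) - 1 := by
  have h := sum_normSq x
  rw [split_triv, triv_apply, map_one] at h
  linarith

theorem part_triv [Fintype (Cfsg.IrrCharacter G)] (x g : G) : part x g triv = 1 := by
  simp [part, deg, triv_apply]

/-- The elementary criterion. -/
theorem product_of_bound [Fintype (Cfsg.IrrCharacter G)] {x g : G} (hx : IsConj x x⁻¹) {D B : ℝ} (hD : 0 < D)
    (hdeg : ∀ χ : Cfsg.IrrCharacter G, χ ≠ triv → D ≤ deg χ) (hB0 : 0 ≤ B)
    (hB : (Nat.card (Subgroup.centralizer ({g} : Set G)) : ℝ) ≤ B ^ 2)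
    (hlt : ((Nat.card (Subgroup.centralizer ({x} : Set G)) : ℝ) - 1) * B < D) :
    ∃ u v : G, g = (u * x * u⁻¹) * (v * x * v⁻¹) := by
  refine product_of_pos hx ?_
  rw [split_triv, part_triv]
  have h : -((((Nat.card (Subgroup.centralizer ({x} : Set G)) : ℝ) - 1) * B) / D) ≤
      ∑ χ ∈ (Finset.univ : Finset (Cfsg.IrrCharacter G)).erase triv, part x g χ := by
    rw [← sum_erase_normSq x, Finset.sum_mul, Finset.sum_div, ← Finset.sum_neg_distrib]
    refine Finset.sum_le_sum fun χ hχ => ?_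
    have hd := hdeg χ (Finset.mem_erase.1 hχ).1
    have hg := abs_le.1 (abs_re_le χ g hB0 hB)
    have hn := Complex.normSq_nonneg ((χ : G → ℂ) x)
    rw [part, neg_le, ← neg_div]
    calc -(Complex.normSq ((χ : G → ℂ) x) * ((χ : G → ℂ) g).re) / deg χ
        ≤ Complex.normSq ((χ : G → ℂ) x) * B / deg χ :=
          div_le_div_of_nonneg_right (by nlinarith) (deg_spec χ).1.le
      _ ≤ _ := div_le_div_of_nonneg_left (mul_nonneg hn hB0) hD hd
  have : (((Nat.card (Subgroup.centralizer ({x} : Set G)) : ℝ) - 1) * B) / D < 1 := (div_lt_one hD).2 hlt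
  linarith

/-- The sum of the values on `T ∖ 1`. -/
noncomputable def torusSum (T : Subgroup G) (χ : Cfsg.IrrCharacter G) : ℝ :=
  ∑ t ∈ (Finset.univ : Finset ↥T).erase 1, ((χ : G → ℂ) t).re

/-- The bound coming from a dihedral group. -/
theorem dihedral {T : Subgroup G} {j g : G} (hj2 : j * j = 1) (hjT : j ∉ T) (hinv : ∀ t ∈ T, j * t * j = t⁻¹)
    (hconj : ∀ t ∈ T, IsConj (t * j) g) (χ : Cfsg.IrrCharacter G) :
    0 ≤ deg χ + torusSum T χ + Nat.card T * ((χ : G → ℂ) g).re := by
  have hjj : ∀ a : G, j * (j * a) = a := fun a => by rw [← mul_assoc, hj2, one_mul]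
  have hswap : ∀ t ∈ T, j * t = t⁻¹ * j := fun t ht => by
    rw [← hinv t ht, mul_assoc (j * t), hj2, mul_one]
  let H : Subgroup G :=
    { carrier := {y | y ∈ T ∨ y * j ∈ T}
      one_mem' := Or.inl (one_mem T)
      mul_mem' := by
        rintro a b (ha | ha) (hb | hb)
        · exact Or.inl (mul_mem ha hb)
        · exact Or.inr (by rw [mul_assoc]; exact mul_mem ha hb)
        · refine Or.inr ?_
          have : a * b * j = (a * j) * b⁻¹ := by
            rw [mul_assoc a j, hswap _ (inv_mem hb), inv_inv, mul_assoc]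
          rw [this]; exact mul_mem ha (inv_mem hb)
        · refine Or.inl ?_
          have : a * b = (a * j) * (b * j)⁻¹ := by
            conv_lhs => rw [show b = (b * j) * j by rw [mul_assoc, hj2, mul_one]]
            rw [← hinv _ hb]
            simp only [mul_assoc, hjj, hj2, mul_one]
          rw [this]; exact mul_mem ha (inv_mem hb)
      inv_mem' := by
        rintro a (ha | ha)
        · exact Or.inl (inv_mem ha)
        · refine Or.inr ?_
          have : a⁻¹ * j = a * j := by
            have e := hinv _ ha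
            have h1 : j * (a * j) * j = j * a := by rw [mul_assoc, mul_assoc, hj2, mul_one]
            rw [h1, _root_.mul_inv_rev, inv_eq_of_mul_eq_one_right hj2] at e
            rw [mul_left_cancel e.symm]
          rw [this]; exact ha }
  let ψ : ↥T ⊕ ↥T → ↥H := fun s => match s with
    | Sum.inl t => ⟨t, Or.inl t.2⟩
    | Sum.inr t => ⟨t * j, Or.inr (by rw [mul_assoc, hj2, mul_one]; exact t.2)⟩
  have hψ : Function.Bijective ψ := by
    constructor
    · rintro (a | a) (b | b) h <;> have h' := congrArg Subtype.val h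
      · exact congrArg Sum.inl (Subtype.ext h')
      · exact absurd (show j ∈ T by
          have : (b : G)⁻¹ * a = j := by rw [show (a : G) = b * j from h', inv_mul_cancel_left]
          rw [← this]; exact mul_mem (inv_mem b.2) a.2) hjT
      · exact absurd (show j ∈ T by
          have : (a : G)⁻¹ * b = j := by rw [show (b : G) = a * j from h'.symm, inv_mul_cancel_left]
          rw [← this]; exact mul_mem (inv_mem a.2) b.2) hjT
      · exact congrArg Sum.inr (Subtype.ext (mul_right_cancel (show (a : G) * j = b * j from h')))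
    · rintro ⟨y, hy | hy⟩
      · exact ⟨Sum.inl ⟨y, hy⟩, rfl⟩
      · exact ⟨Sum.inr ⟨y * j, hy⟩, Subtype.ext (by show y * j * j = y; rw [mul_assoc, hj2, mul_one])⟩
  obtain ⟨k, hk⟩ := exists_classInner_nat (isCharacter_comp H.subtype (isCharacter_irr χ))
    (isCharacter_one (G := ↥H))
  have hsum : (∑ y : ↥H, (χ : G → ℂ) y) = (Nat.card ↥H : ℂ) * k := by
    rw [← hk, Cfsg.classInner, ← mul_assoc, mul_inv_cancel₀ (Nat.cast_ne_zero.2 Nat.card_pos.ne'), one_mul]
    simp
  rw [← Fintype.sum_bijective ψ hψ _ _ (fun _ => rfl), Fintype.sum_sum_type] at hsum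
  have h2 : ∀ t : ↥T, (χ : G → ℂ) (ψ (Sum.inr t) : G) = (χ : G → ℂ) g := fun t =>
    classFunction_apply_of_isConj (isClassFunction_irr χ) (hconj t t.2)
  rw [Finset.sum_congr rfl fun t _ => h2 t, Finset.sum_const, Finset.card_univ, nsmul_eq_mul,
    ← Nat.card_eq_fintype_card, ← Finset.add_sum_erase _ _ (Finset.mem_univ (1 : ↥T))] at hsum
  have h3 := congrArg Complex.re hsum
  simp only [Complex.add_re, Complex.re_sum, Complex.mul_re, Complex.natCast_re, Complex.natCast_im, zero_mul,
    sub_zero] at h3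
  have h4 : 0 ≤ (Nat.card ↥H : ℝ) * k := mul_nonneg (Nat.cast_nonneg _) (Nat.cast_nonneg _)
  rw [← h3] at h4
  exact h4

/-- The criterion with a dihedral group. -/
theorem product_of_dihedral [Fintype (Cfsg.IrrCharacter G)] {T : Subgroup G} {x g j : G} (hx : IsConj x x⁻¹)
    (hj2 : j * j = 1) (hjT : j ∉ T) (hinv : ∀ t ∈ T, j * t * j = t⁻¹) (hconj : ∀ t ∈ T, IsConj (t * j) g)
    (hlt : ((Nat.card (Subgroup.centralizer ({x} : Set G)) : ℝ) - 1) +
      ∑ χ ∈ (Finset.univ : Finset (Cfsg.IrrCharacter G)).erase triv, Complex.normSq ((χ : G → ℂ) x) * torusSum T χ / deg χ < Nat.card T) :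
    ∃ u v : G, g = (u * x * u⁻¹) * (v * x * v⁻¹) := by
  refine product_of_pos hx ?_
  rw [split_triv, part_triv]
  have hn : (0 : ℝ) < Nat.card T := Nat.cast_pos.2 Nat.card_pos
  have h : -(((Nat.card (Subgroup.centralizer ({x} : Set G)) : ℝ) - 1 +
      ∑ χ ∈ (Finset.univ : Finset (Cfsg.IrrCharacter G)).erase triv, Complex.normSq ((χ : G → ℂ) x) * torusSum T χ / deg χ) / Nat.card T) ≤
      ∑ χ ∈ (Finset.univ : Finset (Cfsg.IrrCharacter G)).erase triv, part x g χ := by
    rw [← sum_erase_normSq x, ← Finset.sum_add_distrib, Finset.sum_div, ← Finset.sum_neg_distrib]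
    refine Finset.sum_le_sum fun χ _ => ?_
    have hd := (deg_spec χ).1
    have h0 := mul_nonneg (Complex.normSq_nonneg ((χ : G → ℂ) x)) (dihedral hj2 hjT hinv hconj χ)
    have h1 := div_nonneg (div_nonneg h0 hd.le) hn.le
    rw [part]
    have e : Complex.normSq ((χ : G → ℂ) x) * (deg χ + torusSum T χ + Nat.card T * ((χ : G → ℂ) g).re) / deg χ / Nat.card T =
        (Complex.normSq ((χ : G → ℂ) x) + Complex.normSq ((χ : G → ℂ) x) * torusSum T χ / deg χ) / Nat.card T +
          Complex.normSq ((χ : G → ℂ) x) * ((χ : G → ℂ) g).re / deg χ := by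
      field_simp
    linarith [e]
  have := (div_lt_one hn).2 hlt
  linarith

/-- The criterion with a dihedral group and the trivial estimate on the torus. -/
theorem product_of_dihedral_crude [Fintype (Cfsg.IrrCharacter G)] {T : Subgroup G} {x g j : G} (hx : IsConj x x⁻¹)
    (hj2 : j * j = 1) (hjT : j ∉ T) (hinv : ∀ t ∈ T, j * t * j = t⁻¹) (hconj : ∀ t ∈ T, IsConj (t * j) g)
    {D B : ℝ} (hD : 0 < D) (hdeg : ∀ χ : Cfsg.IrrCharacter G, χ ≠ triv → D ≤ deg χ) (hB0 : 0 ≤ B)
    (hB : ∀ t ∈ T, t ≠ 1 → (Nat.card (Subgroup.centralizer ({t} : Set G)) : ℝ) ≤ B ^ 2)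
    (hlt : ((Nat.card (Subgroup.centralizer ({x} : Set G)) : ℝ) - 1) * (D + ((Nat.card T : ℝ) - 1) * B) <
      Nat.card T * D) :
    ∃ u v : G, g = (u * x * u⁻¹) * (v * x * v⁻¹) := by
  refine product_of_dihedral hx hj2 hjT hinv hconj ?_
  set a := (Nat.card (Subgroup.centralizer ({x} : Set G)) : ℝ) - 1
  set M := ((Nat.card T : ℝ) - 1) * B
  have hL : ∀ χ : Cfsg.IrrCharacter G, |torusSum T χ| ≤ M := fun χ => by
    refine (Finset.abs_sum_le_sum_abs _ _).trans ?_
    refine (Finset.sum_le_sum fun (t : ↥T) ht => abs_re_le χ (t : G) hB0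
      (hB t t.2 fun h => (Finset.mem_erase.1 ht).1 (Subtype.ext h))).trans (le_of_eq ?_)
    rw [Finset.sum_const, Finset.card_erase_of_mem (Finset.mem_univ _), Finset.card_univ, nsmul_eq_mul,
      ← Nat.card_eq_fintype_card, Nat.cast_sub Nat.card_pos, Nat.cast_one]
  have hS : ∑ χ ∈ (Finset.univ : Finset (Cfsg.IrrCharacter G)).erase triv, Complex.normSq ((χ : G → ℂ) x) * torusSum T χ / deg χ ≤ a * M / D := by
    rw [show a * M / D = (∑ χ ∈ (Finset.univ : Finset (Cfsg.IrrCharacter G)).erase triv, Complex.normSq ((χ : G → ℂ) x)) * M / D by rw [sum_erase_normSq],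
      Finset.sum_mul, Finset.sum_div]
    refine Finset.sum_le_sum fun χ hχ => ?_
    have hn := Complex.normSq_nonneg ((χ : G → ℂ) x)
    refine (div_le_div_of_nonneg_right (mul_le_mul_of_nonneg_left ((le_abs_self _).trans (hL χ)) hn)
      (deg_spec χ).1.le).trans (div_le_div_of_nonneg_left (mul_nonneg hn ((abs_nonneg _).trans (hL χ))) hD
      (hdeg χ (Finset.mem_erase.1 hχ).1))
  have : a + a * M / D < Nat.card T := by
    rw [← sub_pos]
    have : (Nat.card T : ℝ) - (a + a * M / D) = (Nat.card T * D - a * (D + M)) / D := by field_simp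
    rw [this]; exact div_pos (sub_pos.2 hlt) hD
  linarith

end Cfsg.Agent.Lib.ReeCover50.Estimate
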