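import Cfsg.Agent.Lib.ReeCover50.TorusDual
import Cfsg.Agent.Lib.ReeCover50.Estimate

/-!
The mean of the values of the irreducible characters on a torus with a normaliser of index six,
weighted by the values at one element of the torus.
-/

set_option autoImplicit false
set_option linter.unusedSectionVars false

namespace Cfsg.Agent.Lib.ReeCover50.Exceptional

open Cfsg.Agent.Lib.SzChars.TISum Cfsg.Agent.Lib.SzChars.Dual
open Cfsg.Agent.Lib.Characters.Basic
open Cfsg.Agent.Lib.ReeCover50.Estimate Cfsg.Agent.Lib.ReeCover50.TorusDual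
open scoped ComplexConjugate Classical

universe u

variable {G : Type u} [Group G] [Fintype G] {T : Subgroup G}

/-- The non-trivial linear characters. -/
abbrev NT (T : Subgroup G) : Type u := {θ : ↥T →* ℂˣ // θ ≠ 1}

/-- Fusion of linear characters in the normaliser. -/
def fus (T : Subgroup G) : Setoid (NT T) where
  r θ φ := ∃ n, tw φ.1 n = θ.1
  iseqv :=
    { refl := fun θ => ⟨1, tw_one _⟩
      symm := fun {θ φ} ⟨n, h⟩ => ⟨n⁻¹, by rw [← h, ← tw_mul, inv_mul_cancel, tw_one]⟩
      trans := fun {a b c} ⟨n, h⟩ ⟨k, h'⟩ => ⟨n * k, by rw [tw_mul, h', h]⟩ }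

lemma deg_sq_le [Fintype (Cfsg.IrrCharacter G)] (χ : Cfsg.IrrCharacter G) : deg χ * deg χ ≤ Nat.card G := by
  have h := normSq_le χ (1 : G)
  rw [(deg_spec χ).2, Complex.normSq_ofReal] at h
  refine h.trans ?_
  exact_mod_cast Nat.le_of_dvd Nat.card_pos (Subgroup.card_subgroup_dvd_card _)

/-- The main estimate. -/
theorem sum_lt_one [Fintype (Cfsg.IrrCharacter G)] (hT : IsTorus T)
    (he : Nat.card (Subgroup.normalizer (T : Set G)) = 6 * Nat.card T) {s : ℕ} (hs : Nat.card T = 6 * s + 1)
    (hs6 : s = 6 ∨ 7 < s) {D : ℝ} (hD : 16 * (6 * (s : ℝ)) < D)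
    (hdeg : ∀ χ : Cfsg.IrrCharacter G, χ ≠ triv → D ≤ deg χ)
    (hexcl : s = 6 → ∀ d : ℕ, D ≤ (d : ℝ) → d ∣ Nat.card G → (5 * d + 1) ∣ Nat.card G → (5 * d + 1) * (5 * d + 1) ≤ Nat.card G →
      37 ∣ d + 30 → False)
    {x : G} (hx : x ∈ T) (hx1 : x ≠ 1) :
    ∑ χ ∈ (Finset.univ : Finset (Cfsg.IrrCharacter G)).erase triv,
      Complex.normSq ((χ : G → ℂ) x) * torusSum T χ / deg χ < 1 := by
  haveI : Finite (↥T →* ℂˣ) := (finite_dual hT).1
  letI : Fintype (↥T →* ℂˣ) := Fintype.ofFinite _
  letI : Setoid (NT T) := fus T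
  let κ := Quotient (fus T)
  set ξ : ↥T := ⟨x, hx⟩
  have hξ : ξ ≠ 1 := fun h => hx1 (congrArg Subtype.val h)
  let rep : κ → NT T := Quotient.out
  let V : κ → Cfsg.IrrCharacter G → ℤ := fun i χ => dlt χ (rep i).1
  have hV : ∀ (χ : Cfsg.IrrCharacter G) (θ : NT T), V (Quotient.mk (fus T) θ) χ = dlt χ θ.1 := by
    intro χ θ
    obtain ⟨n, hn⟩ : ∃ n, tw θ.1 n = (rep (Quotient.mk (fus T) θ)).1 :=
      Quotient.exact (Quotient.out_eq (Quotient.mk (fus T) θ))
    show dlt χ (rep _).1 = _
    rw [← hn, dlt_tw hT he χ θ.2]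
  have hgram : ∀ i j, IntStar.dot (V i) (V j) = (6 : ℤ) + if i = j then 1 else 0 := by
    intro i j
    refine (gram hT he (rep i).2 (rep j).2).trans ?_
    push_cast
    congr 1
    refine if_congr ⟨fun h => ?_, fun h => ?_⟩ rfl rfl
    · rw [← Quotient.out_eq i, ← Quotient.out_eq j]
      exact Quotient.sound h
    · subst h; exact ⟨1, tw_one _⟩
  -- the sizes of the fibres
  have hfib : ∀ i : κ, (Finset.univ.filter fun θ : NT T => Quotient.mk (fus T) θ = i).card = 6 := by
    intro i
    set S := Finset.univ.filter fun θ : NT T => Quotient.mk (fus T) θ = i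
    have hmap : ∀ n ∈ (Finset.univ : Finset ↥(Subgroup.normalizer (T : Set G))),
        tw (rep i).1 n ∈ S.image Subtype.val := by
      intro n _
      have hne : tw (rep i).1 n ≠ 1 := fun h => (rep i).2 (by
        have := congrArg (fun ψ => tw ψ n⁻¹) h
        rw [← tw_mul, inv_mul_cancel, tw_one] at this
        rw [this]; exact MonoidHom.ext fun _ => rfl)
      refine Finset.mem_image.2 ⟨⟨_, hne⟩, Finset.mem_filter.2 ⟨Finset.mem_univ _, ?_⟩, rfl⟩
      exact (Quotient.sound (s := fus T) (b := rep i) (show (fus T).r ⟨_, hne⟩ (rep i) from ⟨n, rfl⟩)).trans (Quotient.out_eq i)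
    have h := Finset.card_eq_sum_card_fiberwise hmap
    rw [Finset.sum_image (fun a _ b _ e => Subtype.ext e), Finset.card_univ, ← Nat.card_eq_fintype_card, he,
      Finset.sum_congr rfl fun θ hθ => card_tw_eq hT (rep i).2 (by
        have : (rep i) = Quotient.out (Quotient.mk (fus T) θ) := by rw [(Finset.mem_filter.1 hθ).2]
        obtain ⟨n, hn⟩ := (fus T).symm (Quotient.exact (Quotient.out_eq (Quotient.mk (fus T) θ)))
        exact ⟨n, by rw [this]; exact hn⟩), Finset.sum_const, smul_eq_mul] at h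
    exact (Nat.eq_of_mul_eq_mul_right Nat.card_pos h).symm
  have hNT : Fintype.card (NT T) = 6 * s := by
    rw [Fintype.card_subtype_compl, Fintype.card_subtype_eq, ← Nat.card_eq_fintype_card, (finite_dual hT).2, hs]
    omega
  have hκ : Fintype.card κ = s := by
    have h := Finset.card_eq_sum_card_fiberwise (f := Quotient.mk (fus T)) (t := (Finset.univ : Finset κ))
      (fun θ (_ : θ ∈ (Finset.univ : Finset (NT T))) => Finset.mem_univ _)
    rw [Finset.sum_congr rfl fun i _ => hfib i, Finset.sum_const, smul_eq_mul, Finset.card_univ, Finset.card_univ,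
      hNT] at h
    omega
  let O : κ → ℂ := fun i => ∑ θ ∈ Finset.univ.filter (fun θ : NT T => Quotient.mk (fus T) θ = i), (θ.1 ξ : ℂ)
  have hdlt1 : ∀ χ : Cfsg.IrrCharacter G, dlt χ (1 : ↥T →* ℂˣ) = 0 := fun χ => sub_self _
  have happ : ∀ χ : Cfsg.IrrCharacter G, (χ : G → ℂ) x = ∑ i, (V i χ : ℂ) * O i := by
    intro χ
    have h := apply_eq hT χ hξ
    have h' := sum_ne_one (fun θ => (dlt χ θ : ℂ) * (θ ξ : ℂ))
    rw [hdlt1, Int.cast_zero, zero_mul, sub_zero, ← h] at h'
    refine h'.symm.trans ?_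
    rw [← Finset.sum_fiberwise Finset.univ (Quotient.mk (fus T))]
    refine Finset.sum_congr rfl fun i _ => ?_
    rw [Finset.mul_sum]
    exact Finset.sum_congr rfl fun θ hθ => by rw [← hV χ θ, (Finset.mem_filter.1 hθ).2]
  have hO : ∑ i, O i = -1 := by
    show ∑ i, ∑ θ ∈ Finset.univ.filter (fun θ : NT T => Quotient.mk (fus T) θ = i), (θ.1 ξ : ℂ) = -1
    rw [Finset.sum_fiberwise, sum_ne_one (fun θ => (θ ξ : ℂ)), sum_dual hT, if_neg hξ]
    simp
  have hts : ∀ χ : Cfsg.IrrCharacter G, torusSum T χ = -6 * ∑ i, (V i χ : ℝ) := by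
    intro χ
    have h := congrArg Complex.re (sum_eq hT χ)
    rw [Complex.re_sum, Complex.neg_re, Complex.re_sum] at h
    refine h.trans ?_
    have h1 : ∑ θ : ↥T →* ℂˣ, (dlt χ θ : ℂ).re = ∑ θ : NT T, (dlt χ θ.1 : ℝ) := by
      have := congrArg Complex.re (sum_ne_one (T := T) (fun θ => (dlt χ θ : ℂ)))
      rw [hdlt1, Int.cast_zero, sub_zero, Complex.re_sum, Complex.re_sum] at this
      simp only [Complex.intCast_re] at this ⊢
      exact this.symm
    rw [h1, ← Finset.sum_fiberwise Finset.univ (Quotient.mk (fus T)), ← Finset.sum_neg_distrib, Finset.mul_sum]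
    refine Finset.sum_congr rfl fun i _ => ?_
    rw [Finset.sum_congr rfl (fun θ hθ => by rw [← hV χ θ, (Finset.mem_filter.1 hθ).2] :
      ∀ θ ∈ Finset.univ.filter (fun θ : NT T => Quotient.mk (fus T) θ = i), (dlt χ θ.1 : ℝ) = (V i χ : ℝ)),
      Finset.sum_const, hfib, nsmul_eq_mul]
    push_cast; ring
  have hcard : 5 ≤ Fintype.card κ := by omega
  obtain ⟨B, pos, ε, hinj, hε, hstar⟩ := IntStar.exists_star hcard V 6 (fun i j => by convert hgram i j)
  have hVv : ∀ i χ, V i χ = B χ + if χ = pos i then ε i else 0 := fun i χ => by rw [hstar i]; simp only [Pi.add_apply, IntStar.unit]; congr 1; split_ifs <;> rfl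
  -- the trivial character
  have htriv : ∀ i, V i triv = -1 := fun i => dlt_one_char (fun g => triv_apply g) (rep i).2
  have htrivR : triv ∉ Finset.univ.image pos := by
    intro h
    obtain ⟨i, -, hi⟩ := Finset.mem_image.1 h
    obtain ⟨j, hj⟩ : ∃ j, j ≠ i := Fintype.exists_ne_of_one_lt_card (by omega) i
    have e1 := hVv i triv
    have e2 := hVv j triv
    rw [htriv, if_pos hi.symm] at e1
    rw [htriv, if_neg fun e => hj (hinj (hi.trans e).symm)] at e2
    have := hε i
    have h0 : ε i = 0 := by omega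
    rw [h0] at this; norm_num at this
  have hBtriv : B triv = -1 := by
    obtain ⟨i⟩ : Nonempty κ := Fintype.card_pos_iff.1 (by omega)
    have e := hVv i triv
    rw [htriv, if_neg fun e => htrivR (Finset.mem_image.2 ⟨i, Finset.mem_univ _, e.symm⟩)] at e
    omega
  obtain ⟨i₀⟩ : Nonempty κ := Fintype.card_pos_iff.1 (by omega)
  set c := ε i₀ * B (pos i₀)
  have hnorm : ∀ i, IntStar.dot B B + 2 * (ε i * B (pos i)) = 6 := by
    intro i
    have h := hgram i i
    rw [if_pos rfl, hstar i, IntStar.dot_add_right, IntStar.dot_unit, IntStar.dot_add_left,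
      IntStar.dot_comm (IntStar.unit (pos i) (ε i)) B, IntStar.dot_unit] at h
    simp only [Pi.add_apply, IntStar.unit, if_true] at h
    nlinarith [hε i]
  have hc : ∀ i, B (pos i) = c * ε i := by
    intro i
    have h1 := hnorm i
    have h2 := hnorm i₀
    have : ε i * B (pos i) = c := by show ε i * B (pos i) = ε i₀ * B (pos i₀); linarith
    rw [← this, mul_comm (ε i) (B (pos i)), mul_assoc, hε, mul_one]
  set R := ((Finset.univ : Finset (Cfsg.IrrCharacter G)).erase triv) \ Finset.univ.image pos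
  have hpart : ∀ {M : Type} [AddCommMonoid M] (f : Cfsg.IrrCharacter G → M),
      ∑ χ ∈ (Finset.univ : Finset (Cfsg.IrrCharacter G)).erase triv, f χ = ∑ χ ∈ R, f χ + ∑ i, f (pos i) := by
    intro M _ f
    rw [← Finset.sum_image (f := f) (fun a _ b _ e => hinj e),
      ← Finset.sum_sdiff (fun χ (hχ : χ ∈ Finset.univ.image pos) => Finset.mem_erase.2
        ⟨fun e => htrivR (by rw [← e]; exact hχ), Finset.mem_univ _⟩)]
  have hBsum : ∑ χ ∈ R, B χ * B χ = 5 - 2 * c - s * (c * c) := by
    have h : IntStar.dot B B = B triv * B triv +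
        ∑ χ ∈ (Finset.univ : Finset (Cfsg.IrrCharacter G)).erase triv, B χ * B χ :=
      (Finset.add_sum_erase _ _ (Finset.mem_univ _)).symm
    rw [hpart, Finset.sum_congr rfl fun i _ => show B (pos i) * B (pos i) = c * c by
      rw [hc i]; linear_combination (c * c) * hε i, Finset.sum_const, Finset.card_univ, hκ, nsmul_eq_mul, hBtriv] at h
    have := hnorm i₀
    change IntStar.dot B B + 2 * c = 6 at this
    linarith
  have hR0 : (0 : ℤ) ≤ ∑ χ ∈ R, B χ * B χ := Finset.sum_nonneg fun χ _ => mul_self_nonneg _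
  have hs7 : (6 : ℤ) ≤ s := by omega
  have hcases : c = 0 ∨ (c = -1 ∧ s = 6) := by
    have h1 : (s : ℤ) * (c * c) + 2 * c ≤ 5 := by linarith
    have h2 : c ≤ 0 := by nlinarith
    have h3 : -1 ≤ c := by nlinarith
    rcases (show c = 0 ∨ c = -1 by omega) with e | e
    · exact Or.inl e
    · refine Or.inr ⟨e, ?_⟩
      rw [e] at h1
      omega
  have hRabs : ∀ χ ∈ R, |(B χ : ℝ)| ≤ 2 := by
    intro χ hχ
    have h1 : B χ * B χ ≤ ∑ χ ∈ R, B χ * B χ :=
      Finset.single_le_sum (f := fun ψ => B ψ * B ψ) (fun ψ _ => mul_self_nonneg _) hχ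
    have h2 : B χ ≤ 2 ∧ -2 ≤ B χ := by
      rcases hcases with e | ⟨e, es⟩
      · rw [e] at hBsum; constructor <;> nlinarith
      · rw [e, es] at hBsum; constructor <;> nlinarith
    rw [abs_le]
    exact ⟨by exact_mod_cast h2.2, by exact_mod_cast h2.1⟩
  have hRbound : ∑ χ ∈ R, Complex.normSq ((χ : G → ℂ) x) * torusSum T χ / deg χ ≤
      12 * s * ((∑ χ ∈ R, B χ * B χ : ℤ) : ℝ) / D := by
    rw [Int.cast_sum, Finset.mul_sum, Finset.sum_div]
    refine Finset.sum_le_sum fun χ hχ => ?_
    obtain ⟨hχ1, hχ2⟩ := Finset.mem_sdiff.1 hχ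
    have hV' : ∀ i, V i χ = B χ := fun i => by
      rw [hVv, if_neg fun e => hχ2 (Finset.mem_image.2 ⟨i, Finset.mem_univ _, e.symm⟩), add_zero]
    rw [happ, hts, Finset.sum_congr rfl fun i _ => by rw [hV' i], ← Finset.mul_sum, hO,
      Finset.sum_congr rfl fun i _ => by rw [hV' i], Finset.sum_const, Finset.card_univ, hκ, nsmul_eq_mul]
    simp only [mul_neg, mul_one, Complex.normSq_neg, Complex.normSq_intCast]
    push_cast
    have h2 := hRabs χ hχ
    have hnum : (B χ : ℝ) * B χ * (-6 * (s * B χ)) ≤ 12 * s * ((B χ : ℝ) * B χ) := by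
      have : 0 ≤ (6 * (s : ℝ)) * ((B χ : ℝ) * B χ) * (2 + B χ) :=
        mul_nonneg (mul_nonneg (by positivity) (mul_self_nonneg _)) (by linarith [(abs_le.1 h2).1])
      nlinarith
    refine (div_le_div_of_nonneg_right hnum (deg_spec χ).1.le).trans
      (div_le_div_of_nonneg_left (mul_nonneg (by positivity) (mul_self_nonneg _)) (lt_trans ?_ hD)
        (hdeg χ (Finset.mem_erase.1 hχ1).1))
    have : (1 : ℝ) ≤ s := by exact_mod_cast (show 1 ≤ s by omega)
    linarith
  have hposD : ∀ i, D ≤ deg (pos i) := fun i => hdeg _ fun e => htrivR (Finset.mem_image.2 ⟨i, Finset.mem_univ _, e⟩)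
  have hposL : ∀ i, torusSum T (pos i) = -6 * ((ε i : ℝ) * (s * c + 1)) := by
    intro i
    rw [hts, Finset.sum_congr rfl fun j _ => by
      rw [hVv j (pos i), hc i]]
    simp only [hinj.eq_iff]
    push_cast
    rw [Finset.sum_add_distrib, Finset.sum_const, Finset.card_univ, hκ, nsmul_eq_mul, Finset.sum_ite_eq,
      if_pos (Finset.mem_univ _)]
    ring
  have hD0 : 0 < D := lt_of_le_of_lt (by positivity) hD
  rw [hpart]
  rcases hcases with hc0 | ⟨hc1, hs'⟩
  · have h1 : ∑ i, Complex.normSq ((pos i : G → ℂ) x) * torusSum T (pos i) / deg (pos i) ≤ 6 * (6 * s) / D := by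
      have hsum : ∑ i, Complex.normSq ((pos i : G → ℂ) x) ≤ 6 * (s : ℝ) := by
        rw [← Finset.sum_image (f := fun χ : Cfsg.IrrCharacter G => Complex.normSq ((χ : G → ℂ) x)) (fun a _ b _ e => hinj e)]
        refine (Finset.sum_le_sum_of_subset_of_nonneg (t := (Finset.univ : Finset (Cfsg.IrrCharacter G)).erase triv)
          (fun χ (hχ : χ ∈ Finset.univ.image pos) => Finset.mem_erase.2
        ⟨fun e => htrivR (by rw [← e]; exact hχ), Finset.mem_univ _⟩)
          (fun χ _ _ => Complex.normSq_nonneg _)).trans (le_of_eq ?_)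
        rw [sum_erase_normSq, hT.cent x hx hx1, hs]
        push_cast; ring
      refine (Finset.sum_le_sum (g := fun i => Complex.normSq ((pos i : G → ℂ) x) * 6 / D) fun i _ => ?_).trans ?_
      · have hn := Complex.normSq_nonneg ((pos i : G → ℂ) x)
        rw [hposL, hc0]
        refine (div_le_div_of_nonneg_right (mul_le_mul_of_nonneg_left ?_ hn) (deg_spec _).1.le).trans
          (div_le_div_of_nonneg_left (mul_nonneg hn (by norm_num)) hD0 (hposD i))
        rcases IntStar.sign_of_sq (hε i) with e | e <;> rw [e] <;> push_cast <;> linarith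
      · rw [← Finset.sum_div, ← Finset.sum_mul, mul_comm (6 : ℝ) (6 * s)]
        exact div_le_div_of_nonneg_right (mul_le_mul_of_nonneg_right hsum (by norm_num)) hD0.le
    rw [hBsum, hc0] at hRbound
    push_cast at hRbound
    have h2 : (12 * s * (5 - 2 * 0 - s * (0 * 0)) / D + 6 * (6 * s) / D : ℝ) < 1 := by
      rw [← add_div, div_lt_one hD0]; linarith
    linarith
  · subst hs'
    rw [hc1] at hposL hBsum
    push_cast at hposL
    have hsign : ∀ i, ε i = ε i₀ ∧ deg (pos i) = deg (pos i₀) := by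
      have hrel : ∀ i, ∑ χ : Cfsg.IrrCharacter G, deg χ * (V i χ : ℝ) = 0 := by
        intro i
        have hC : ∑ χ : Cfsg.IrrCharacter G, (χ : G → ℂ) 1 * (dlt χ (rep i).1 : ℂ) = 0 := by
          simp only [dlt_cast, Finset.mul_sum]
          rw [Finset.sum_comm]
          refine Finset.sum_eq_zero fun t _ => ?_
          rw [Finset.sum_congr rfl (fun χ _ => by ring : ∀ χ ∈ (Finset.univ : Finset (Cfsg.IrrCharacter G)),
            (χ : G → ℂ) 1 * ((Nat.card T : ℂ)⁻¹ * ((χ : G → ℂ) t * (conj ((rep i).1 t : ℂ) - 1))) =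
            (Nat.card T : ℂ)⁻¹ * (conj ((rep i).1 t : ℂ) - 1) * ((χ : G → ℂ) 1 * (χ : G → ℂ) t)),
            ← Finset.mul_sum, Cfsg.Agent.Lib.Characters.Complete.sum_degree_mul_apply]
          by_cases ht : (t : G) = 1
          · rw [show t = 1 from Subtype.ext ht]; simp
          · rw [if_neg ht, mul_zero]
        have := congrArg Complex.re hC
        rw [Complex.re_sum, Complex.zero_re] at this
        rw [← this]
        refine Finset.sum_congr rfl fun χ _ => ?_
        rw [(deg_spec χ).2, Complex.re_ofReal_mul, Complex.intCast_re]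
      intro i
      have e1 := hrel i
      have e2 := hrel i₀
      simp only [hVv, Int.cast_add, apply_ite (Int.cast : ℤ → ℝ), Int.cast_zero, mul_add, mul_ite, mul_zero,
        Finset.sum_add_distrib, Finset.sum_ite_eq', Finset.mem_univ, if_true] at e1 e2
      have h := (deg_spec (pos i)).1
      have h' := (deg_spec (pos i₀)).1
      rcases IntStar.sign_of_sq (hε i) with e | e <;> rcases IntStar.sign_of_sq (hε i₀) with e' | e' <;>
        rw [e] at e1 ⊢ <;> rw [e'] at e2 ⊢ <;> push_cast at e1 e2 <;>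
        first
          | exact ⟨rfl, by linarith⟩
          | (exfalso; linarith)
    rcases IntStar.sign_of_sq (hε i₀) with hpos | hneg
    · exfalso
      -- the exceptional case is arithmetically impossible
      have hR1 : ∑ χ ∈ R, B χ * B χ = 1 := by rw [hBsum]; norm_num
      have hval : ∀ χ ∈ R, B χ = 0 ∨ B χ = 1 ∨ B χ = -1 := by
        intro χ hχ
        have h1 : B χ * B χ ≤ ∑ χ ∈ R, B χ * B χ :=
          Finset.single_le_sum (f := fun ψ => B ψ * B ψ) (fun ψ _ => mul_self_nonneg _) hχ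
        have : B χ ≤ 1 ∧ -1 ≤ B χ := by constructor <;> nlinarith
        omega
      set S := R.filter fun χ => B χ ≠ 0
      have hS : S.card = 1 := by
        have h : ∑ χ ∈ S, B χ * B χ = 1 := by
          rw [← hR1]
          exact Finset.sum_filter_of_ne fun χ _ hne hz => hne (by rw [hz, mul_zero])
        rw [Finset.sum_congr rfl (fun χ hχ => by
          rcases hval χ (Finset.mem_filter.1 hχ).1 with e | e | e
          · exact absurd e (Finset.mem_filter.1 hχ).2
          · rw [e]; norm_num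
          · rw [e]; norm_num : ∀ χ ∈ S, B χ * B χ = 1), Finset.sum_const, nsmul_eq_mul, mul_one] at h
        exact_mod_cast h
      obtain ⟨χ₀, hχ₀⟩ := Finset.card_eq_one.1 hS
      obtain ⟨d, hd0, hdG, hd⟩ := Cfsg.Agent.Lib.Characters.Degree.exists_degree_dvd (pos i₀)
      obtain ⟨b, hb0, hbG, hb⟩ := Cfsg.Agent.Lib.Characters.Degree.exists_degree_dvd χ₀
      have hdd : deg (pos i₀) = d := by rw [deg, hd, Complex.natCast_re]
      have hbb : deg χ₀ = b := by rw [deg, hb, Complex.natCast_re]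
      have hC : ∑ χ : Cfsg.IrrCharacter G, (χ : G → ℂ) 1 * (dlt χ (rep i₀).1 : ℂ) = 0 := by
        simp only [dlt_cast, Finset.mul_sum]
        rw [Finset.sum_comm]
        refine Finset.sum_eq_zero fun t _ => ?_
        rw [Finset.sum_congr rfl (fun χ _ => by ring : ∀ χ ∈ (Finset.univ : Finset (Cfsg.IrrCharacter G)),
          (χ : G → ℂ) 1 * ((Nat.card T : ℂ)⁻¹ * ((χ : G → ℂ) t * (conj ((rep i₀).1 t : ℂ) - 1))) =
          (Nat.card T : ℂ)⁻¹ * (conj ((rep i₀).1 t : ℂ) - 1) * ((χ : G → ℂ) 1 * (χ : G → ℂ) t)),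
          ← Finset.mul_sum, Cfsg.Agent.Lib.Characters.Complete.sum_degree_mul_apply]
        by_cases ht : (t : G) = 1
        · rw [show t = 1 from Subtype.ext ht]; simp
        · rw [if_neg ht, mul_zero]
      have hC' := congrArg Complex.re hC
      rw [Complex.re_sum, Complex.zero_re, ← Finset.add_sum_erase _ _ (Finset.mem_univ (triv : Cfsg.IrrCharacter G)),
        hpart] at hC'
      have hterm : ∀ χ : Cfsg.IrrCharacter G, ((χ : G → ℂ) 1 * (dlt χ (rep i₀).1 : ℂ)).re = deg χ * (V i₀ χ : ℝ) :=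
        fun χ => by rw [(deg_spec χ).2, Complex.re_ofReal_mul, Complex.intCast_re]
      simp only [hterm] at hC'
      have e1 : ∑ χ ∈ R, deg χ * (V i₀ χ : ℝ) = b * (B χ₀ : ℝ) := by
        rw [← hbb, ← Finset.sum_singleton (f := fun χ => deg χ * (B χ : ℝ)) (a := χ₀), ← hχ₀, Finset.sum_filter]
        refine Finset.sum_congr rfl fun χ hχ => ?_
        rw [hVv, if_neg fun e => (Finset.mem_sdiff.1 hχ).2 (Finset.mem_image.2 ⟨i₀, Finset.mem_univ _, e.symm⟩),
          add_zero]
        split_ifs with h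
        · rfl
        · push Not at h; rw [h]; simp
      have e2 : ∑ i, deg (pos i) * (V i₀ (pos i) : ℝ) = -5 * (d : ℝ) := by
        have hval' : ∀ i, deg (pos i) * (V i₀ (pos i) : ℝ) = (if i = i₀ then (d : ℝ) else 0) - d := fun i => by
          rw [(hsign i).2, hdd, hVv, hc i, (hsign i).1, hpos, hc1]
          simp only [hinj.eq_iff]
          split_ifs <;> push_cast <;> ring
        rw [Finset.sum_congr rfl fun i _ => hval' i, Finset.sum_sub_distrib, Finset.sum_ite_eq',
          if_pos (Finset.mem_univ _), Finset.sum_const, Finset.card_univ, hκ, nsmul_eq_mul]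
        push_cast; ring
      rw [e1, e2, htriv, show deg (triv : Cfsg.IrrCharacter G) = 1 by simp [deg, triv_apply]] at hC'
      have hχ₀R : χ₀ ∈ R := (Finset.mem_filter.1 (hχ₀ ▸ Finset.mem_singleton_self χ₀ : χ₀ ∈ S)).1
      have hb5 : b = 5 * d + 1 := by
        have hd0' : (0 : ℝ) < d := by exact_mod_cast hd0
        have hb0' : (0 : ℝ) < b := by exact_mod_cast hb0
        rcases hval χ₀ hχ₀R with e | e | e <;> rw [e] at hC' <;> push_cast at hC'
        · linarith
        · exact_mod_cast (show (b : ℝ) = 5 * d + 1 by linarith)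
        · linarith
      refine hexcl rfl d (hdd ▸ hposD i₀) hdG (hb5 ▸ hbG) ?_ ?_
      · have h := deg_sq_le χ₀
        rw [hbb, hb5] at h
        exact_mod_cast h
      · obtain ⟨z, hz⟩ := exists_int (pos i₀) (1 : ↥T →* ℂˣ)
        have hsum : (∑ t : ↥T, ((pos i₀ : G → ℂ) t)) = (Nat.card T : ℂ) * z := by
          rw [← hz, mult, Cfsg.classInner, ← mul_assoc, mul_inv_cancel₀ (Nat.cast_ne_zero.2 Nat.card_pos.ne'), one_mul]
          simp
        have h := congrArg Complex.re hsum
        rw [Complex.re_sum, ← Finset.add_sum_erase _ _ (Finset.mem_univ (1 : ↥T))] at h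
        change deg (pos i₀) + torusSum T (pos i₀) = _ at h
        rw [hdd, hposL, hpos, hs] at h
        norm_num at h
        have hz' : ((d + 30 : ℕ) : ℤ) = 37 * z := by
          have : ((d : ℝ) + 30) = 37 * z := by linarith
          push_cast
          exact_mod_cast this
        exact Int.natCast_dvd_natCast.1 ⟨z, hz'⟩
    · have h1 : ∑ i, Complex.normSq ((pos i : G → ℂ) x) * torusSum T (pos i) / deg (pos i) ≤ 0 := by
        refine Finset.sum_nonpos fun i _ => div_nonpos_of_nonpos_of_nonneg ?_ (deg_spec _).1.le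
        rw [hposL, (hsign i).1, hneg]
        refine mul_nonpos_of_nonneg_of_nonpos (Complex.normSq_nonneg _) ?_
        norm_num
      rw [hBsum] at hRbound
      push_cast at hRbound hD
      have h2 : (12 * 6 * (5 - 2 * -1 - 6 * (-1 * -1)) / D : ℝ) < 1 := by
        rw [div_lt_one hD0]; linarith
      linarith

end Cfsg.Agent.Lib.ReeCover50.Exceptional
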