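import Mathlib

/-!
Families of integer vectors whose differences have square length two: they are translates of
signed unit vectors.
-/

set_option autoImplicit false
set_option linter.unusedSectionVars false

namespace Cfsg.Agent.Lib.ReeCover50.IntStar

open scoped Classical

variable {ι : Type*} [Fintype ι]

/-- The inner product. -/
def dot (v w : ι → ℤ) : ℤ := ∑ χ, v χ * w χ

/-- A signed unit vector. -/
noncomputable def unit (p : ι) (a : ℤ) : ι → ℤ := fun χ => if χ = p then a else 0

lemma dot_unit (v : ι → ℤ) (p : ι) (a : ℤ) : dot v (unit p a) = v p * a := by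
  simp [dot, unit]

lemma dot_add_right (u v w : ι → ℤ) : dot u (v + w) = dot u v + dot u w := by
  simp [dot, mul_add, Finset.sum_add_distrib]

lemma dot_comm (u v : ι → ℤ) : dot u v = dot v u := Finset.sum_congr rfl fun _ _ => mul_comm _ _

lemma dot_add_left (u v w : ι → ℤ) : dot (u + v) w = dot u w + dot v w := by
  rw [dot_comm, dot_add_right, dot_comm w u, dot_comm w v]

lemma dot_sub_sub (a b c d : ι → ℤ) : dot (a - b) (c - d) = dot a c - dot a d - dot b c + dot b d := by
  simp [dot, sub_mul, mul_sub, Finset.sum_sub_distrib]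
  ring

lemma sign_of_sq {a : ℤ} (h : a * a = 1) : a = 1 ∨ a = -1 := mul_self_eq_one_iff.1 h

lemma two_units {v : ι → ℤ} (h : dot v v = 2) :
    ∃ (p r : ι) (a b : ℤ), p ≠ r ∧ a * a = 1 ∧ b * b = 1 ∧ v = unit p a + unit r b := by
  set S := Finset.univ.filter fun χ => v χ ≠ 0
  have hsum : ∑ χ ∈ S, v χ * v χ = 2 := by
    rw [← h, dot]
    refine Finset.sum_filter_of_ne fun χ _ hne hz => hne (by rw [hz, mul_zero])
  have hle : ∀ χ ∈ S, v χ * v χ ≤ 2 := fun χ hχ =>
    hsum ▸ Finset.single_le_sum (fun ψ _ => mul_self_nonneg (v ψ)) hχ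
  have hone : ∀ χ ∈ S, v χ * v χ = 1 := by
    intro χ hχ
    have h2 := hle χ hχ
    have hne := (Finset.mem_filter.1 hχ).2
    have : v χ ≤ 1 ∧ -1 ≤ v χ := by constructor <;> nlinarith
    rcases (by omega : v χ = 1 ∨ v χ = -1) with e | e <;> rw [e] <;> norm_num
  rw [Finset.sum_congr rfl hone, Finset.sum_const, nsmul_eq_mul, mul_one] at hsum
  obtain ⟨p, r, hpr, hS⟩ := Finset.card_eq_two.1 (show S.card = 2 by exact_mod_cast hsum)
  refine ⟨p, r, v p, v r, hpr, hone p (by simp [hS]), hone r (by simp [hS]), funext fun χ => ?_⟩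
  by_cases hp : χ = p
  · subst hp; simp [unit, hpr]
  by_cases hr : χ = r
  · subst hr; simp [unit, Ne.symm hpr]
  · have : χ ∉ S := by simp [hS, hp, hr]
    simp [S] at this
    simp [unit, hp, hr, this]

lemma abs_le_one {v : ι → ℤ} (h : dot v v = 2) (χ : ι) : v χ ≤ 1 ∧ -1 ≤ v χ := by
  obtain ⟨p, r, a, b, hpr, ha, hb, rfl⟩ := two_units h
  simp only [Pi.add_apply, unit]
  rcases sign_of_sq ha with rfl | rfl <;> rcases sign_of_sq hb with rfl | rfl <;>
    by_cases e1 : χ = p <;> by_cases e2 : χ = r <;> simp_all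

lemma split_at {v : ι → ℤ} (h : dot v v = 2) {p : ι} {a : ℤ} (hp : v p = a) (ha : a * a = 1) :
    ∃ (w : ι) (c : ℤ), w ≠ p ∧ c * c = 1 ∧ v = unit p a + unit w c := by
  obtain ⟨p', r', a', b', hne, ha', hb', rfl⟩ := two_units h
  simp only [Pi.add_apply, unit] at hp
  by_cases e1 : p = p'
  · subst e1
    rw [if_pos rfl, if_neg hne, add_zero] at hp
    subst hp
    exact ⟨r', b', hne.symm, hb', rfl⟩
  by_cases e2 : p = r'
  · subst e2
    rw [if_neg e1, if_pos rfl, zero_add] at hp
    subst hp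
    exact ⟨p', a', hne, ha', add_comm _ _⟩
  rw [if_neg e1, if_neg e2, add_zero] at hp
  rw [← hp] at ha
  norm_num at ha

/-- The structure of the family. -/
theorem exists_star {κ : Type*} [Fintype κ] (hκ : 5 ≤ Fintype.card κ) (D : κ → ι → ℤ) (e : ℤ)
    (hD : ∀ i j, dot (D i) (D j) = e + if i = j then 1 else 0) :
    ∃ (B : ι → ℤ) (pos : κ → ι) (ε : κ → ℤ), Function.Injective pos ∧ (∀ i, ε i * ε i = 1) ∧
      ∀ i, D i = B + unit (pos i) (ε i) := by
  obtain ⟨o⟩ : Nonempty κ := Fintype.card_pos_iff.1 (by omega)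
  have hE : ∀ i j, i ≠ o → j ≠ o → dot (D i - D o) (D j - D o) = 1 + if i = j then 1 else 0 := by
    intro i j hi hj
    rw [dot_sub_sub, hD, hD, hD, hD, if_neg hi, if_neg (Ne.symm hj), if_pos rfl]
    split_ifs <;> ring
  have hE2 : ∀ j, j ≠ o → dot (D j - D o) (D j - D o) = 2 := fun j hj => by
    rw [hE j j hj hj, if_pos rfl]; norm_num
  obtain ⟨i₁, h1⟩ : ∃ i₁, i₁ ≠ o := Fintype.exists_ne_of_one_lt_card (by omega) o
  obtain ⟨p, r, a, b, hpr, ha, hb, hv⟩ := two_units (hE2 i₁ h1)
  -- the two types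
  have htype : ∀ j, j ≠ o → j ≠ i₁ → ∃ (w : ι) (c : ℤ), c * c = 1 ∧ w ≠ p ∧ w ≠ r ∧
      (D j - D o = unit p a + unit w c ∨ D j - D o = unit r b + unit w c) := by
    intro j hj hj1
    have h := hE j i₁ hj h1
    rw [if_neg hj1, hv, dot_add_right, dot_unit, dot_unit, add_zero] at h
    obtain ⟨u1, u2⟩ := abs_le_one (hE2 j hj) p
    obtain ⟨v1, v2⟩ := abs_le_one (hE2 j hj) r
    have hcases : ((D j - D o) p = a ∧ (D j - D o) r = 0) ∨ ((D j - D o) r = b ∧ (D j - D o) p = 0) := by
      rcases sign_of_sq ha with e | e <;> rcases sign_of_sq hb with e' | e' <;>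
        subst e <;> subst e' <;> omega
    rcases hcases with ⟨ep, er⟩ | ⟨er, ep⟩
    · obtain ⟨w, c, hw, hc, e⟩ := split_at (hE2 j hj) ep ha
      refine ⟨w, c, hc, hw, fun hwr => ?_, Or.inl e⟩
      rw [e, hwr] at er
      simp [unit, Ne.symm hpr] at er
      rw [er] at hc; norm_num at hc
    · obtain ⟨w, c, hw, hc, e⟩ := split_at (hE2 j hj) er hb
      refine ⟨w, c, hc, fun hwp => ?_, hw, Or.inr e⟩
      rw [e, hwp] at ep
      simp [unit, hpr] at ep
      rw [ep] at hc; norm_num at hc
  have hinj : ∀ i k, i ≠ o → k ≠ o → D i - D o = D k - D o → i = k := by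
    intro i k hi hk e
    by_contra hne
    have h := hE i k hi hk
    rw [if_neg hne, ← e, hE2 i hi] at h
    norm_num at h
  obtain ⟨z, w, hz, hw⟩ : ∃ (z : ι) (w : ℤ), w * w = 1 ∧ ∀ j, j ≠ o → ∃ (t : ι) (c : ℤ),
      c * c = 1 ∧ t ≠ z ∧ D j - D o = unit z w + unit t c := by
    by_cases hallp : ∀ j, j ≠ o → j ≠ i₁ → ∃ (t : ι) (c : ℤ), c * c = 1 ∧ t ≠ p ∧ D j - D o = unit p a + unit t c
    · refine ⟨p, a, ha, fun j hj => ?_⟩
      by_cases hj1 : j = i₁
      · exact ⟨r, b, hb, Ne.symm hpr, hj1 ▸ hv⟩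
      · exact hallp j hj hj1
    refine ⟨r, b, hb, fun j hj => ?_⟩
    by_cases hj1 : j = i₁
    · exact ⟨p, a, ha, hpr, by rw [hj1, hv, add_comm]⟩
    obtain ⟨t, c, hc, htp, htr, et | et⟩ := htype j hj hj1
    swap
    · exact ⟨t, c, hc, htr, et⟩
    exfalso
    push Not at hallp
    obtain ⟨k, hk, hk1, hno⟩ := hallp
    obtain ⟨t₃, c₃, hc₃, h3p, h3r, ek | ek⟩ := htype k hk hk1
    · exact hno t₃ c₃ hc₃ h3p ek
    -- a vector of either type determines the other type
    have hpair : ∀ (i l : κ) (x y : ι) (d d' : ℤ), i ≠ o → l ≠ o → x ≠ p → x ≠ r → y ≠ p → y ≠ r →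
        d * d = 1 → d' * d' = 1 → D i - D o = unit p a + unit x d → D l - D o = unit r b + unit y d' →
        x = y ∧ d = d' := by
      intro i l x y d d' hi hl hxp hxr hyp hyr hd hd' ei el
      have hne : i ≠ l := by
        rintro rfl
        have e := congrFun (ei.symm.trans el) p
        simp [unit, hpr, hxp.symm, hyp.symm] at e
        rw [e] at ha; norm_num at ha
      have h := hE i l hi hl
      rw [if_neg hne, ei, el, dot_add_right, dot_unit, dot_unit, add_zero] at h
      simp only [Pi.add_apply, unit, if_neg hpr.symm, if_neg hxr.symm, if_neg hyp, zero_add, zero_mul] at h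
      by_cases e : y = x
      · rw [if_pos e] at h
        refine ⟨e.symm, ?_⟩
        rcases sign_of_sq hd with rfl | rfl <;> rcases sign_of_sq hd' with rfl | rfl <;> norm_num at h <;> norm_num
      · rw [if_neg e] at h
        norm_num at h
    have hsub : (Finset.univ : Finset κ) ⊆ {o, i₁, j, k} := by
      intro l _
      by_cases hl : l = o
      · simp [hl]
      by_cases hl1 : l = i₁
      · simp [hl1]
      obtain ⟨y, d, hd, hyp, hyr, el | el⟩ := htype l hl hl1
      · obtain ⟨e1, e2⟩ := hpair l k y t₃ d c₃ hl hk hyp hyr h3p h3r hd hc₃ el ek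
        obtain ⟨e3, e4⟩ := hpair j k t t₃ c c₃ hj hk htp htr h3p h3r hc hc₃ et ek
        have := hinj l j hl hj (by rw [el, et, e1, e2, e3, e4])
        simp [this]
      · obtain ⟨e1, e2⟩ := hpair j l t y c d hj hl htp htr hyp hyr hc hd et el
        obtain ⟨e3, e4⟩ := hpair j k t t₃ c c₃ hj hk htp htr h3p h3r hc hc₃ et ek
        have := hinj l k hl hk (by rw [el, ek, ← e1, ← e2, ← e3, ← e4])
        simp [this]
    have := (Finset.card_le_card hsub).trans Finset.card_le_four
    rw [Finset.card_univ] at this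
    omega
  choose t c hc htz ht using hw
  refine ⟨D o + unit z w, fun j => if h : j = o then z else t j h, fun j => if h : j = o then -w else c j h, ?_, ?_, ?_⟩
  · intro i j hij
    by_contra hne
    simp only at hij
    by_cases hi : i = o
    · have hj : j ≠ o := fun e => hne (hi.trans e.symm)
      rw [dif_pos hi, dif_neg hj] at hij
      exact htz j hj hij.symm
    by_cases hj : j = o
    · rw [dif_neg hi, dif_pos hj] at hij
      exact htz i hi hij
    rw [dif_neg hi, dif_neg hj] at hij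
    have h := hE i j hi hj
    rw [if_neg hne, ht i hi, ht j hj] at h
    simp only [dot_add_right, dot_unit] at h
    simp only [Pi.add_apply, unit, if_pos rfl, if_neg (htz j hj), if_neg (Ne.symm (htz i hi)), hij] at h
    simp [hij ▸ htz i hi, hij ▸ Ne.symm (htz i hi)] at h
    rcases sign_of_sq (hc i hi) with e | e <;> rcases sign_of_sq (hc j hj) with e' | e' <;>
      rcases sign_of_sq hz with e'' | e'' <;> simp [e, e', e''] at h
  · intro j
    by_cases h : j = o
    · simp only [dif_pos h]; linear_combination hz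
    · simp only [dif_neg h]; exact hc j h
  · intro j
    funext χ
    by_cases h : j = o
    · subst h
      simp only [dif_pos rfl, Pi.add_apply, unit]
      split_ifs <;> ring
    · simp only [dif_neg h]
      have h2 := congrFun (ht j h) χ
      simp only [Pi.sub_apply, Pi.add_apply] at h2 ⊢
      linear_combination h2

end Cfsg.Agent.Lib.ReeCover50.IntStar
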