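import Cfsg.Agent.Lib.ReeCover50.Unipotent
import Cfsg.Agent.Lib.ReeCover50.Exceptional
import Cfsg.Agent.Lib.ExcDeg48.Ree

/-!
Every non-identity element of a small Ree group is a product of two conjugates of any given
semisimple element of order greater than two.
-/

set_option autoImplicit false
set_option linter.unusedSectionVars false

namespace Cfsg.Agent.Lib.ReeCover50

open Cfsg.Lie Cfsg.Agent.Lib.LieTwisted Cfsg.Agent.Lib.LieTwisted.Ree
open Cfsg.Agent.Lib.Ree
open Cfsg.Agent.Lib.Characters.Basic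
open scoped Classical

variable {K : Type*} [Field K] [CharP K 3] [Fintype K] {m : ℕ} [hF : Fact (Fintype.card K = 3 ^ (2 * m + 1))]

lemma three_le_theta {m : ℕ} (hm : 1 ≤ m) : 3 ≤ 3 ^ m := by
  calc 3 = 3 ^ 1 := (pow_one 3).symm
    _ ≤ 3 ^ m := Nat.pow_le_pow_right (by norm_num) hm

lemma qq_theta (m : ℕ) : qq m = 3 * (3 ^ m * 3 ^ m) := by
  rw [qq, ← pow_add, ← pow_succ']; congr 1; omega

/-- The lower bound for the degrees, as a real number. -/
noncomputable def minDeg (m : ℕ) : ℝ := (qq m : ℝ) * qq m - qq m + 1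

lemma deg_ge (hm : 1 ≤ m) (χ : Cfsg.IrrCharacter (G K m)) (hχ : χ ≠ Estimate.triv) :
    minDeg m ≤ Estimate.deg χ := by
  obtain ⟨k, ρ, hρ, hch⟩ := exists_rep χ
  haveI := hρ
  have hnt : ∃ g, ρ g ≠ 1 := by
    by_contra hcon
    push Not at hcon
    have hval : ∀ g, (χ : G K m → ℂ) g = k := fun g => by
      rw [← hch, Representation.character, hcon, LinearMap.trace_one, Module.finrank_fin_fun]
    have h := classInner_self_irr χ
    have h1 : (k : ℂ) * k = 1 := by
      rw [Cfsg.classInner] at h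
      simp only [hval, map_natCast, Finset.sum_const, Finset.card_univ, nsmul_eq_mul, ← Nat.card_eq_fintype_card] at h
      rwa [← mul_assoc, inv_mul_cancel₀ (Nat.cast_ne_zero.2 Nat.card_pos.ne'), one_mul] at h
    have h2 : k = 1 := Nat.eq_one_of_mul_eq_one_right (show k * k = 1 by exact_mod_cast h1)
    exact hχ (Subtype.ext (funext fun g => by rw [hval, h2, Nat.cast_one]; rfl))
  have h := Cfsg.Agent.Lib.ExcDeg48.ree_bound (K := K) (m := m) ρ hm hnt
  rw [Module.finrank_fin_fun, card_eq_qq (K := K) (m := m)] at h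
  have hd : Estimate.deg χ = k := by
    rw [Estimate.deg, ← hch, Representation.char_one, Module.finrank_fin_fun, Complex.natCast_re]
  have h' : ((qq m * (qq m - 1) + 1 : ℕ) : ℝ) ≤ (k : ℝ) := by exact_mod_cast h
  simp only [Nat.cast_add, Nat.cast_mul, Nat.cast_sub (show 1 ≤ qq m by have := qq_ge m; omega), Nat.cast_one] at h'
  rw [hd, minDeg]
  linarith

lemma ss_of_hyp (hm : 1 ≤ m) {x : G K m} (hx2 : 2 < orderOf x) (hx3 : ¬ 3 ∣ orderOf x) : x ∈ setSS K m := by
  rcases elem_cases hm x with h | h | h | h | h | h | h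
  · rw [h, orderOf_one] at hx2; omega
  · exact absurd (orderOf_setP h).1 hx3
  · exact absurd (show 3 ∣ orderOf x by rw [show orderOf x = 6 from h]; norm_num) hx3
  · rw [orderOf_setI h] at hx2; omega
  · exact Or.inl (Or.inl h)
  · exact Or.inl (Or.inr h)
  · exact Or.inr h

lemma card_cent_le_top (hm : 1 ≤ m) {x : G K m} (hx : x ∈ setSS K m) :
    Nat.card ↥(Subgroup.centralizer {x}) ≤ qq m + 3 ^ (m + 1) + 1 := by
  have := Nat.zero_le (3 ^ (m + 1))
  rcases card_cent_ss hm hx with h | h <;> omega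

/-- Elements with small centralisers. -/
theorem covered_small (hm : 1 ≤ m) {x g : G K m} (hx : x ∈ setSS K m)
    (hg : Nat.card ↥(Subgroup.centralizer {g}) ≤ 3 * qq m) : Covered x g := by
  haveI : Fintype (Cfsg.IrrCharacter (G K m)) := Fintype.ofFinite _
  set s : ℝ := ((3 ^ m : ℕ) : ℝ) with hsdef
  have hs : (3 : ℝ) ≤ s := by rw [hsdef]; exact_mod_cast three_le_theta hm
  have hq : (qq m : ℝ) = 3 * (s * s) := by rw [qq_theta]; simp only [hsdef, Nat.cast_mul, Nat.cast_ofNat]
  have hpos : 0 < minDeg m := by rw [minDeg, hq]; nlinarith [mul_le_mul hs hs (by norm_num) (by linarith)]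
  refine Estimate.product_of_bound (trc_inv_eq hm hx) hpos (deg_ge hm) (B := 3 * s) (by linarith) ?_ ?_
  · have h : (Nat.card ↥(Subgroup.centralizer {g}) : ℝ) ≤ ((3 * qq m : ℕ) : ℝ) := by exact_mod_cast hg
    simp only [Nat.cast_mul, Nat.cast_ofNat] at h
    rw [hq] at h
    linarith [show (3 * s) ^ 2 = 3 * (3 * (s * s)) by ring]
  · have h : (Nat.card ↥(Subgroup.centralizer {x}) : ℝ) ≤ ((qq m + 3 * 3 ^ m + 1 : ℕ) : ℝ) := by
      have := card_cent_le_top hm hx
      rw [pow_succ'] at this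
      exact_mod_cast this
    have he : ((qq m + 3 * 3 ^ m + 1 : ℕ) : ℝ) = 3 * (s * s) + 3 * s + 1 := by
      simp only [hsdef, Nat.cast_add, Nat.cast_mul, Nat.cast_ofNat, Nat.cast_one, hq]
    rw [he] at h
    have hmul : ((Nat.card ↥(Subgroup.centralizer {x}) : ℝ) - 1) * (3 * s) ≤ (3 * (s * s) + 3 * s) * (3 * s) :=
      mul_le_mul_of_nonneg_right (by linarith) (by linarith)
    refine lt_of_le_of_lt hmul ?_
    rw [minDeg, hq]
    nlinarith [mul_le_mul_of_nonneg_left hs (mul_nonneg (mul_nonneg (by linarith : (0:ℝ) ≤ s) (by linarith : (0:ℝ) ≤ s)) (by linarith : (0:ℝ) ≤ s)),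
      mul_le_mul_of_nonneg_left hs (mul_nonneg (by linarith : (0:ℝ) ≤ s) (by linarith : (0:ℝ) ≤ s))]

lemma excl_prop : ∀ k < 543, 19 ≤ k → ¬ (10073444472 % (37 * k + 7) = 0 ∧ 10073444472 % (5 * (37 * k + 7) + 1) = 0) := by
  decide +kernel

/-- The involutions. -/
theorem covered_invol (hm : 1 ≤ m) {x g : G K m} (hx : x ∈ setSS K m) (hg1 : g ≠ 1) (hg2 : g * g = 1) :
    Covered x g := by
  haveI : Fintype (Cfsg.IrrCharacter (G K m)) := Fintype.ofFinite _
  obtain ⟨y', y, hy', hy, -, hNy, hcy', hcy, hcov⟩ := two_classes (K := K) hm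
  set T := Subgroup.centralizer {y} with hTdef
  have hTodd : Odd (Nat.card T) := by
    rw [hcy]
    have h1 : Odd (qq m) := (by decide : Odd 3).pow
    have h2 : Odd (3 ^ (m + 1)) := (by decide : Odd 3).pow
    exact (h1.add_odd h2).add_one
  have hTne : ∀ z ∈ T, z ≠ 1 → Subgroup.centralizer {z} = T := fun z hz hz1 =>
    centralizer_T_eq hm hy.1 hy.2 rfl hz hz1
  haveI := centralizer_T_isCyclic (K := K) hm hy.1 hy.2 rfl
  obtain ⟨⟨z, hzT⟩, hz⟩ := IsCyclic.exists_generator (α := ↥T)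
  have hpow : ∀ t ∈ T, ∃ i : ℤ, z ^ i = t := fun t ht => by
    obtain ⟨i, hi⟩ := hz ⟨t, ht⟩
    exact ⟨i, congrArg Subtype.val hi⟩
  have hcardT : 7 ≤ Nat.card T := seven_le_card hm hy
  have hz1 : z ≠ 1 := by
    intro h
    have : Nat.card T = 1 := by
      rw [Subgroup.card_eq_one, Subgroup.eq_bot_iff_forall]
      intro t ht
      obtain ⟨i, hi⟩ := hpow t ht
      rw [← hi, h, one_zpow]
    omega
  have hzSS : z ∈ setSS K m := Or.inr ⟨hz1, (Subgroup.orderOf_dvd_natCard _ hzT).trans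
    (card_centralizer_T_dvd hm hy.1 hy.2 rfl)⟩
  obtain ⟨h, hh⟩ := isConj_iff.1 (trc_inv_eq hm hzSS)
  have hh2 : h * h ∈ T := by
    rw [← hTne z hzT hz1, Subgroup.mem_centralizer_singleton_iff]
    have e : h * z⁻¹ * h⁻¹ = z := by rw [show h * z⁻¹ * h⁻¹ = (h * z * h⁻¹)⁻¹ by group, hh, inv_inv]
    calc h * h * z = h * (h * z * h⁻¹) * h := by group
      _ = (h * z⁻¹ * h⁻¹) * (h * h) := by rw [hh]; group
      _ = z * (h * h) := by rw [e]
  obtain ⟨k, hk⟩ := hTodd
  set j := h ^ Nat.card T with hjdef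
  have hj2 : j * j = 1 := by
    rw [hjdef, ← (Commute.refl h).mul_pow]
    exact orderOf_dvd_iff_pow_eq_one.1 (Subgroup.orderOf_dvd_natCard _ hh2)
  have hjz : j * z * j⁻¹ = z⁻¹ := by
    have hc : (h * h) ^ k ∈ Subgroup.centralizer {z⁻¹} := by
      rw [Subgroup.mem_centralizer_singleton_iff]
      have := Subgroup.mem_centralizer_singleton_iff.1 ((hTne z hzT hz1).symm ▸ pow_mem hh2 k)
      exact ((Commute.inv_right (show Commute ((h * h) ^ k) z from this))).eq
    rw [hjdef, hk, pow_succ, pow_mul, sq]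
    calc (h * h) ^ k * h * z * ((h * h) ^ k * h)⁻¹ = (h * h) ^ k * (h * z * h⁻¹) * ((h * h) ^ k)⁻¹ := by group
      _ = z⁻¹ := by rw [hh, Subgroup.mem_centralizer_singleton_iff.1 hc, mul_inv_cancel_right]
  have hjinv : j⁻¹ = j := inv_eq_of_mul_eq_one_right hj2
  have hinv : ∀ t ∈ T, j * t * j = t⁻¹ := by
    intro t ht
    obtain ⟨i, rfl⟩ := hpow t ht
    conv_lhs => rw [show j * z ^ i * j = j * z ^ i * j⁻¹ by rw [hjinv]]
    rw [← conj_zpow, hjz, inv_zpow]
  have hjT : j ∉ T := by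
    intro hjT
    have h1 : j * z = z * j := Subgroup.mem_centralizer_singleton_iff.1 ((hTne z hzT hz1).symm ▸ hjT)
    rw [h1, mul_inv_cancel_right] at hjz
    have h2 : z ^ 2 = 1 := by rw [pow_two]; nth_rewrite 1 [hjz]; exact inv_mul_cancel z
    have h3 : orderOf z ∣ 2 := orderOf_dvd_of_pow_eq_one h2
    have h4 := Subgroup.orderOf_dvd_natCard _ hzT
    rcases (Nat.dvd_prime Nat.prime_two).1 h3 with e | e
    · exact hz1 (orderOf_eq_one_iff.1 e)
    · rw [e] at h4
      omega
  have hconj : ∀ t ∈ T, IsConj (t * j) g := by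
    intro t ht
    refine (isConj_invA hm (fun e => hjT ?_) ?_).symm.trans (isConj_invA hm hg1 hg2)
    · rw [eq_inv_of_mul_eq_one_right e]; exact inv_mem ht
    · calc t * j * (t * j) = t * (j * t * j) := by group
        _ = 1 := by rw [hinv t ht, mul_inv_cancel]
  set s : ℝ := ((3 ^ m : ℕ) : ℝ) with hsdef
  have hs : (3 : ℝ) ≤ s := by rw [hsdef]; exact_mod_cast three_le_theta hm
  have hq : (qq m : ℝ) = 3 * (s * s) := by rw [qq_theta]; simp only [hsdef, Nat.cast_mul, Nat.cast_ofNat]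
  have hn : (Nat.card T : ℝ) = 3 * (s * s) + 3 * s + 1 := by
    rw [hcy, pow_succ']; simp only [hsdef, Nat.cast_add, Nat.cast_mul, Nat.cast_ofNat, Nat.cast_one, hq]
  have hpos : 0 < minDeg m := by rw [minDeg, hq]; nlinarith [mul_le_mul hs hs (by norm_num) (by linarith)]
  by_cases hsmall : Nat.card ↥(Subgroup.centralizer {x}) ≤ qq m + 1
  · refine Estimate.product_of_dihedral_crude (trc_inv_eq hm hx) hj2 hjT hinv hconj hpos (deg_ge hm)
      (B := 2 * s + 1) (by linarith) (fun t ht ht1 => ?_) ?_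
    · rw [hTne t ht ht1, hn]; nlinarith
    · have h : (Nat.card ↥(Subgroup.centralizer {x}) : ℝ) ≤ ((qq m + 1 : ℕ) : ℝ) := by exact_mod_cast hsmall
      simp only [Nat.cast_add, Nat.cast_one] at h
      rw [hq] at h
      rw [hn]
      have hB : 0 ≤ minDeg m + (3 * (s * s) + 3 * s + 1 - 1) * (2 * s + 1) :=
        add_nonneg hpos.le (mul_nonneg (by nlinarith) (by linarith))
      refine lt_of_le_of_lt (mul_le_mul_of_nonneg_right (show _ ≤ 3 * (s * s) by linarith) hB) ?_
      rw [minDeg, hq]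
      have h2 : 0 ≤ s * s * (s * s - 2 * s - 3) := mul_nonneg (mul_self_nonneg s) (by nlinarith)
      have h3 : 0 ≤ s * (s * s - 2 * s - 3) := mul_nonneg (by linarith) (by nlinarith)
      nlinarith [mul_nonneg (mul_nonneg (by linarith : (0:ℝ) ≤ s) (mul_self_nonneg s)) (by nlinarith : (0:ℝ) ≤ s * s - 2 * s - 3)]
  · have hbig : Nat.card ↥(Subgroup.centralizer {x}) = qq m + 3 ^ (m + 1) + 1 :=
      (card_cent_ss hm hx).resolve_left hsmall
    have hxT : ∃ u, u * x * u⁻¹ ∈ T ∧ u * x * u⁻¹ ≠ 1 := by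
      rcases hx with (h' | h') | h'
      · have := card_cent_setH h'; omega
      · have := card_cent_setA hm h'; omega
      · rcases hcov h' with h'' | h''
        · have := card_cent_classT hm hy' h''
          have := (qq_r m).2
          have := Nat.sub_le (qq m) (3 ^ (m + 1))
          omega
        · obtain ⟨u, -, hu, hu1⟩ := h''
          exact ⟨u, hu, fun e => hu1 e⟩
    obtain ⟨u, hu, hu1⟩ := hxT
    have hxc : IsConj x (u * x * u⁻¹) := isConj_iff.2 ⟨u, rfl⟩
    set x' := u * x * u⁻¹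
    have hx' : IsConj x' x'⁻¹ := by
      obtain ⟨c, hc⟩ := isConj_iff.1 (trc_inv_eq hm hx)
      refine isConj_iff.2 ⟨u * c * u⁻¹, ?_⟩
      rw [show x' = u * x * u⁻¹ from rfl, show (u * x * u⁻¹)⁻¹ = u * x⁻¹ * u⁻¹ by group, ← hc]
      group
    have hTor : Cfsg.Agent.Lib.SzChars.TISum.IsTorus T :=
      { comm := fun a ha b hb => by
          obtain ⟨i, rfl⟩ := hpow a ha
          obtain ⟨i', rfl⟩ := hpow b hb
          rw [← zpow_add, ← zpow_add, add_comm]
        cent := fun c hc hc1 => hTne c hc hc1 }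
    obtain ⟨e, he⟩ : ∃ e, 3 ^ m * (3 ^ m + 1) = e + e := Nat.even_mul_succ_self (3 ^ m)
    have hsT : Nat.card T = 6 * e + 1 := by
      rw [hcy, qq_theta, pow_succ']
      rw [Nat.mul_succ] at he
      omega
    have he6 : e = 6 ∨ 7 < e := by
      rcases Nat.eq_or_lt_of_le hm with h' | h'
      · subst h'; left; norm_num at he; omega
      · right
        have h9 : 9 ≤ 3 ^ m := by
          calc 9 = 3 ^ 2 := by norm_num
            _ ≤ 3 ^ m := Nat.pow_le_pow_right (by norm_num) h'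
        have := Nat.mul_le_mul h9 (show 10 ≤ 3 ^ m + 1 by omega)
        omega
    have heR : (6 * (e : ℝ)) = 3 * (s * s) + 3 * s := by
      have : (Nat.card T : ℝ) = 6 * (e : ℝ) + 1 := by rw [hsT]; push_cast; ring
      linarith
    have hlt := Exceptional.sum_lt_one (G := G K m) hTor (by rw [hNy, mul_comm]) hsT he6 (D := minDeg m) ?_ (deg_ge hm) ?_ hu hu1
    · obtain ⟨a, b, hab⟩ := Estimate.product_of_dihedral hx' hj2 hjT hinv hconj (by
        rw [hTne x' hu hu1]; linarith)
      exact ⟨a * u, b * u, by rw [hab]; simp only [x']; group⟩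
    · rw [minDeg, hq, heR]
      nlinarith [mul_le_mul_of_nonneg_left hs (mul_nonneg (mul_nonneg (by linarith : (0:ℝ) ≤ s) (by linarith : (0:ℝ) ≤ s)) (by linarith : (0:ℝ) ≤ s)),
        mul_le_mul_of_nonneg_left hs (mul_nonneg (by linarith : (0:ℝ) ≤ s) (by linarith : (0:ℝ) ≤ s)), mul_le_mul hs hs (by norm_num) (by linarith)]
    · intro he' d hD hd hb hsq h37
      have hm1 : m = 1 := by
        by_contra hne
        have h9 : 9 ≤ 3 ^ m := by
          calc 9 = 3 ^ 2 := by norm_num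
            _ ≤ 3 ^ m := Nat.pow_le_pow_right (by norm_num) (by omega)
        have := Nat.mul_le_mul h9 (show 10 ≤ 3 ^ m + 1 by omega)
        omega
      subst hm1
      have hG : Nat.card (G K 1) = 10073444472 := by
        rw [card_G']
        have h := tT_add 1
        rw [show qq 1 = 27 from rfl] at h ⊢
        have : tT 1 = 703 := by omega
        rw [this]
        norm_num
      rw [hG] at hd hb hsq
      obtain ⟨k, hk⟩ := h37
      obtain ⟨k', rfl⟩ : ∃ k', d = 37 * k' + 7 := ⟨k - 1, by omega⟩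
      have hD' : 703 ≤ 37 * k' + 7 := by
        have : ((703 : ℕ) : ℝ) ≤ ((37 * k' + 7 : ℕ) : ℝ) := by
          refine le_trans (le_of_eq ?_) hD
          rw [minDeg, show qq 1 = 27 from rfl]
          norm_num
        exact_mod_cast this
      refine excl_prop k' ?_ (by omega) ⟨Nat.mod_eq_zero_of_dvd hd, Nat.mod_eq_zero_of_dvd hb⟩
      by_contra hlt'
      have h1 : 5 * (37 * 543 + 7) + 1 ≤ 5 * (37 * k' + 7) + 1 := by omega
      have h2 := (Nat.mul_le_mul h1 h1).trans hsq
      norm_num at h2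

/-- The covering theorem. -/
theorem covered_all (hm : 1 ≤ m) {x : G K m} (hx2 : 2 < orderOf x) (hx3 : ¬ 3 ∣ orderOf x) {g : G K m} (hg : g ≠ 1) :
    Covered x g := by
  have hx := ss_of_hyp hm hx2 hx3
  have hss : g ∈ setSS K m → Covered x g := fun h => covered_small hm hx (by
    have h1 := card_cent_le_top hm h
    have h2 := (qq_r m).2
    have := qq_ge27 hm
    omega)
  rcases elem_cases hm g with h | h | h | h | h | h | h
  · exact absurd h hg
  · obtain ⟨c, hc⟩ := exists_conj_U1 (z := g) (n := 2) (show g ^ 3 ^ 2 = 1 from h.2)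
    obtain ⟨t, u, v, e⟩ := mem_U1.1 hc
    refine covered_of_isConj (IsConj.symm (isConj_iff.2 ⟨c, rfl⟩)) ?_
    rw [e]
    by_cases ht : t = 0
    · subst ht
      refine covered_three hm hx fun h1 => hg ?_
      rw [← e, conj_eq_one_iff] at h1
      exact h1
    · exact covered_small hm hx (card_cent_nine hm ht)
  · refine covered_small hm hx ((card_cent_six hm h).trans (Nat.mul_le_mul_right _ (by norm_num)))
  · refine covered_invol hm hx hg ?_
    rw [← pow_two, ← orderOf_setI h, pow_orderOf_eq_one]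
  · exact hss (Or.inl (Or.inl h))
  · exact hss (Or.inl (Or.inr h))
  · exact hss (Or.inr h)

end Cfsg.Agent.Lib.ReeCover50
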