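import Cfsg.Agent.Lib.SzChars.Dual
import Cfsg.Agent.Lib.Characters.Degree
import Cfsg.Agent.Lib.ReeCover50.IntStar

/-!
The multiplicities of the linear characters of a self-centralising abelian TI subgroup in the
irreducible characters of the group.
-/

set_option autoImplicit false
set_option linter.unusedSectionVars false

namespace Cfsg.Agent.Lib.ReeCover50.TorusDual

open Cfsg.Agent.Lib.SzChars.TISum Cfsg.Agent.Lib.SzChars.Dual
open Cfsg.Agent.Lib.Characters.Basic
open scoped ComplexConjugate Classical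

universe u

variable {G : Type u} [Group G] [Fintype G] {T : Subgroup G}

local notation "Lin" T => (↥T →* ℂˣ)

/-- The multiplicity of a linear character in a restriction. -/
noncomputable def mult (χ : Cfsg.IrrCharacter G) (θ : Lin T) : ℂ :=
  Cfsg.classInner (fun t : ↥T => (χ : G → ℂ) t) (fun t => (θ t : ℂ))

lemma exists_int (χ : Cfsg.IrrCharacter G) (θ : Lin T) : ∃ z : ℤ, mult χ θ = z :=
  Cfsg.Agent.Lib.Characters.Generalized.exists_classInner_int
    (Cfsg.Agent.Lib.Characters.Generalized.of_isCharacter (isCharacter_comp T.subtype (isCharacter_irr χ)))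
    (Cfsg.Agent.Lib.SzChars.Family.gen_linear θ)

/-- The difference with the multiplicity of the trivial character. -/
noncomputable def dlt (χ : Cfsg.IrrCharacter G) (θ : Lin T) : ℤ :=
  (exists_int χ θ).choose - (exists_int χ (1 : Lin T)).choose

lemma dlt_cast (χ : Cfsg.IrrCharacter G) (θ : Lin T) :
    (dlt χ θ : ℂ) = (Nat.card T : ℂ)⁻¹ * ∑ t : ↥T, (χ : G → ℂ) t * (conj (θ t : ℂ) - 1) := by
  rw [dlt, Int.cast_sub, ← (exists_int χ θ).choose_spec, ← (exists_int χ (1 : Lin T)).choose_spec, mult, mult,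
    Cfsg.classInner, Cfsg.classInner, ← mul_sub, ← Finset.sum_sub_distrib]
  congr 1
  refine Finset.sum_congr rfl fun t _ => ?_
  simp [mul_sub]

lemma dlt_one_char {χ : Cfsg.IrrCharacter G} (hχ : ∀ g, (χ : G → ℂ) g = 1) {θ : Lin T} (hθ : θ ≠ 1) :
    dlt χ θ = -1 := by
  apply Int.cast_injective (α := ℂ)
  have hn : (Nat.card T : ℂ) ≠ 0 := Nat.cast_ne_zero.2 Nat.card_pos.ne'
  have h1 : ∑ t : ↥T, conj (θ t : ℂ) = 0 := by
    have := sum_char_mul_conj (1 : Lin T) θ
    rw [if_neg (Ne.symm hθ)] at this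
    simpa using this
  rw [dlt_cast]
  simp only [hχ, one_mul]
  rw [Finset.sum_sub_distrib, h1, Finset.sum_const, Finset.card_univ, nsmul_eq_mul, mul_one, zero_sub,
    ← Nat.card_eq_fintype_card, mul_neg, inv_mul_cancel₀ hn, Int.cast_neg, Int.cast_one]

variable (hT : IsTorus T)
include hT

/-- `χ` off the identity of `T` from the differences. -/
theorem apply_eq [Fintype (Lin T)] (χ : Cfsg.IrrCharacter G) {x : ↥T} (hx : x ≠ 1) :
    (χ : G → ℂ) x = ∑ θ : Lin T, (dlt χ θ : ℂ) * (θ x : ℂ) := by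
  have hn : (Nat.card T : ℂ) ≠ 0 := Nat.cast_ne_zero.2 Nat.card_pos.ne'
  have hconj : ∀ (θ : Lin T) (t : ↥T), conj (θ t : ℂ) * (θ x : ℂ) = (θ (t⁻¹ * x) : ℂ) := by
    intro θ t
    rw [map_mul, Units.val_mul]
    congr 1
    rw [map_inv, Units.val_inv_eq_inv_val]
    refine (Complex.inv_eq_conj ?_).symm
    refine Complex.norm_eq_one_of_pow_eq_one (n := Fintype.card ↥T) ?_ Fintype.card_ne_zero
    rw [← Units.val_pow_eq_pow_val, ← map_pow, pow_card_eq_one, map_one, Units.val_one]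
  have h1 : ∀ t : ↥T, ∑ θ : Lin T, (conj (θ t : ℂ) - 1) * (θ x : ℂ) = if t = x then (Nat.card T : ℂ) else 0 := by
    intro t
    simp only [sub_mul, one_mul, hconj, Finset.sum_sub_distrib, sum_dual hT, if_neg hx, sub_zero]
    exact if_congr inv_mul_eq_one rfl rfl
  calc (χ : G → ℂ) x = (Nat.card T : ℂ)⁻¹ * ∑ t : ↥T, (χ : G → ℂ) t * (if t = x then (Nat.card T : ℂ) else 0) := by
        simp only [mul_ite, mul_zero, Finset.sum_ite_eq', Finset.mem_univ, if_true]
        field_simp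
    _ = _ := by
        simp only [← h1, dlt_cast, Finset.mul_sum, Finset.sum_mul]
        rw [Finset.sum_comm]
        exact Finset.sum_congr rfl fun θ _ => Finset.sum_congr rfl fun t _ => by ring

/-- The sum over `T # ` from the differences. -/
theorem sum_eq [Fintype (Lin T)] (χ : Cfsg.IrrCharacter G) :
    ∑ t ∈ (Finset.univ : Finset ↥T).erase 1, (χ : G → ℂ) t = -∑ θ : Lin T, (dlt χ θ : ℂ) := by
  have hn : (Nat.card T : ℂ) ≠ 0 := Nat.cast_ne_zero.2 Nat.card_pos.ne'
  have h1 : ∀ t : ↥T, ∑ θ : Lin T, (conj (θ t : ℂ) - 1) = if t = 1 then 0 else -(Nat.card T : ℂ) := by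
    intro t
    rw [Finset.sum_sub_distrib, ← map_sum, sum_dual hT, Finset.sum_const, Finset.card_univ, nsmul_eq_mul, mul_one,
      ← Nat.card_eq_fintype_card, (finite_dual hT).2]
    split_ifs <;> simp
  have h2 : ∑ θ : Lin T, (dlt χ θ : ℂ) =
      (Nat.card T : ℂ)⁻¹ * ∑ t : ↥T, (χ : G → ℂ) t * (if t = 1 then 0 else -(Nat.card T : ℂ)) := by
    simp only [← h1, dlt_cast, Finset.mul_sum]
    rw [Finset.sum_comm]
  rw [h2, Finset.mul_sum, ← Finset.sum_neg_distrib, ← Finset.add_sum_erase _ _ (Finset.mem_univ (1 : ↥T)),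
    if_pos rfl, mul_zero, mul_zero, neg_zero, zero_add]
  refine Finset.sum_congr rfl fun t ht => ?_
  rw [if_neg (Finset.mem_erase.1 ht).1]
  field_simp

/-- Summation over the elements of `T` conjugate to a given one. -/
theorem sum_fusion {t : ↥T} (ht : t ≠ 1) (f : ↥T → ℂ) :
    ∑ t' : ↥T, (if IsConj (t : G) t' then f t' else 0) =
      (Nat.card T : ℂ)⁻¹ * ∑ n : ↥(Subgroup.normalizer (T : Set G)), f ⟨(n : G)⁻¹ * t * n, by
        have := (Subgroup.mem_normalizer_iff.1 (inv_mem n.2) (t : G)).1 t.2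
        rwa [inv_inv] at this⟩ := by
  set N := Subgroup.normalizer (T : Set G)
  let φ : ↥N → ↥T := fun n => ⟨(n : G)⁻¹ * t * n, by
    have := (Subgroup.mem_normalizer_iff.1 (inv_mem n.2) (t : G)).1 t.2
    rwa [inv_inv] at this⟩
  show _ = (Nat.card T : ℂ)⁻¹ * ∑ n : ↥N, f (φ n)
  have hn : (Nat.card T : ℂ) ≠ 0 := Nat.cast_ne_zero.2 Nat.card_pos.ne'
  rw [← Finset.sum_fiberwise Finset.univ φ, Finset.mul_sum]
  refine Finset.sum_congr rfl fun t' _ => ?_
  rw [Finset.sum_congr rfl (fun n hn' => by rw [(Finset.mem_filter.1 hn').2] : ∀ n ∈ Finset.univ.filter (fun n => φ n = t'), f (φ n) = f t'),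
    Finset.sum_const, nsmul_eq_mul]
  by_cases hc : IsConj (t : G) t'
  · obtain ⟨g, hg⟩ := isConj_iff.1 hc
    have ht0 : (t : G) ≠ 1 := fun h => ht (Subtype.ext h)
    have hgN : g ∈ N := hT.ti g t t.2 ht0 (by rw [hg]; exact t'.2)
    have hcard : (Finset.univ.filter fun n : ↥N => φ n = t').card = Nat.card T := by
      rw [Nat.card_eq_fintype_card, ← Finset.card_univ (α := ↥T)]
      refine (Finset.card_bij (fun (c : ↥T) _ => (⟨c, Subgroup.le_normalizer c.2⟩ : ↥N) * ⟨g, hgN⟩⁻¹) ?_ ?_ ?_).symm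
      · intro c _
        refine Finset.mem_filter.2 ⟨Finset.mem_univ _, Subtype.ext ?_⟩
        show ((c : G) * g⁻¹)⁻¹ * t * ((c : G) * g⁻¹) = t'
        rw [← hg]
        calc ((c : G) * g⁻¹)⁻¹ * t * ((c : G) * g⁻¹) = g * ((c : G)⁻¹ * ((t : G) * c)) * g⁻¹ := by group
          _ = g * t * g⁻¹ := by rw [hT.comm t t.2 c c.2, inv_mul_cancel_left]
      · intro a _ b _ e
        exact Subtype.ext (congrArg (fun z : ↥N => (z : G)) (mul_right_cancel e) :)
      · intro n hn'
        have e : (n : G)⁻¹ * t * n = g * t * g⁻¹ := by rw [hg]; exact congrArg Subtype.val (Finset.mem_filter.1 hn').2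
        have hm : (n : G) * g ∈ T := by
          refine (hT.cent t t.2 ht0).le ?_
          rw [Subgroup.mem_centralizer_singleton_iff]
          calc (n : G) * g * t = (n : G) * (g * t * g⁻¹) * g := by group
            _ = t * ((n : G) * g) := by rw [← e]; group
        exact ⟨⟨_, hm⟩, Finset.mem_univ _, Subtype.ext (mul_inv_cancel_right (n : G) g)⟩
    rw [if_pos hc, hcard]
    field_simp
  · rw [if_neg hc]
    have : (Finset.univ.filter fun n : ↥N => φ n = t') = ∅ := Finset.filter_eq_empty_iff.2 fun n _ e => hc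
      (isConj_iff.2 ⟨(n : G)⁻¹, by rw [inv_inv]; exact congrArg Subtype.val e⟩)
    rw [this, Finset.card_empty, Nat.cast_zero, zero_mul, mul_zero]

/-- The number of elements of the normaliser carrying one linear character to another. -/
theorem card_tw_eq {φ θ : Lin T} (hφ : φ ≠ 1) (h : ∃ n, tw φ n = θ) :
    (Finset.univ.filter fun n : ↥(Subgroup.normalizer (T : Set G)) => tw φ n = θ).card = Nat.card T := by
  obtain ⟨k, hk⟩ := h
  rw [Nat.card_eq_fintype_card, ← Finset.card_univ (α := ↥T)]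
  refine (Finset.card_bij (fun (c : ↥T) _ => k * ⟨c, Subgroup.le_normalizer c.2⟩) ?_ ?_ ?_).symm
  · intro c _
    exact Finset.mem_filter.2 ⟨Finset.mem_univ _, by rw [tw_mul, (tw_eq_self_iff hT hφ _).2 c.2, hk]⟩
  · intro x _ y _ e'
    exact Subtype.ext (congrArg (fun z : ↥(Subgroup.normalizer (T : Set G)) => (z : G)) (mul_left_cancel e') :)
  · intro n hn'
    have h2 : tw φ (k⁻¹ * n) = φ := by
      rw [tw_mul, (Finset.mem_filter.1 hn').2, ← hk, ← tw_mul, inv_mul_cancel, tw_one]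
    exact ⟨⟨_, (tw_eq_self_iff hT hφ _).1 h2⟩, Finset.mem_univ _, Subtype.ext (mul_inv_cancel_left (k : G) n)⟩

variable {e : ℕ} (he : Nat.card (Subgroup.normalizer (T : Set G)) = e * Nat.card T)
include he

/-- The scalar products of the differences. -/
theorem gram [Fintype (Cfsg.IrrCharacter G)] {θ φ : Lin T} (hθ : θ ≠ 1) (hφ : φ ≠ 1) :
    ∑ χ : Cfsg.IrrCharacter G, dlt χ θ * dlt χ φ = e + if ∃ n, tw φ n = θ then 1 else 0 := by
  apply Int.cast_injective (α := ℂ)
  set a : ℂ := (Nat.card T : ℂ) with hadef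
  have hn : a ≠ 0 := Nat.cast_ne_zero.2 Nat.card_pos.ne'
  have hφc : ∀ χ : Cfsg.IrrCharacter G, (dlt χ φ : ℂ) = a⁻¹ * ∑ t : ↥T, conj ((χ : G → ℂ) t) * ((φ t : ℂ) - 1) := by
    intro χ
    have h := congrArg conj (dlt_cast χ φ)
    rw [map_intCast] at h
    rw [h]
    simp [map_sum, a]
  have key : ∑ χ : Cfsg.IrrCharacter G, (dlt χ θ : ℂ) * (dlt χ φ : ℂ) =
      a⁻¹ * a⁻¹ * ∑ t : ↥T, (conj (θ t : ℂ) - 1) *
        ∑ n : ↥(Subgroup.normalizer (T : Set G)), ((tw φ n t : ℂ) - 1) := by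
    calc ∑ χ : Cfsg.IrrCharacter G, (dlt χ θ : ℂ) * (dlt χ φ : ℂ)
        = ∑ χ : Cfsg.IrrCharacter G, ∑ t : ↥T, ∑ t' : ↥T, a⁻¹ * a⁻¹ * ((conj (θ t : ℂ) - 1) * ((φ t' : ℂ) - 1)) *
            ((χ : G → ℂ) t * conj ((χ : G → ℂ) t')) := by
          refine Finset.sum_congr rfl fun χ _ => ?_
          rw [dlt_cast, hφc, mul_mul_mul_comm, Finset.sum_mul_sum, Finset.mul_sum]
          refine Finset.sum_congr rfl fun t _ => ?_
          rw [Finset.mul_sum]
          exact Finset.sum_congr rfl fun t' _ => by ring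
      _ = ∑ t : ↥T, a⁻¹ * a⁻¹ * (conj (θ t : ℂ) - 1) * ∑ t' : ↥T, ((φ t' : ℂ) - 1) *
            (if IsConj (t : G) t' then (Nat.card (Subgroup.centralizer ({(t : G)} : Set G)) : ℂ) else 0) := by
          rw [Finset.sum_comm]
          refine Finset.sum_congr rfl fun t _ => ?_
          rw [Finset.sum_comm, Finset.mul_sum]
          refine Finset.sum_congr rfl fun t' _ => ?_
          rw [← Finset.mul_sum, Cfsg.Agent.Lib.Characters.Complete.sum_irr_mul_conj]
          ring
      _ = _ := by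
          rw [Finset.mul_sum]
          refine Finset.sum_congr rfl fun t _ => ?_
          by_cases ht : t = 1
          · subst ht; simp
          rw [hT.cent t t.2 (fun h => ht (Subtype.ext h)), show (Nat.card ↥T : ℂ) = a from rfl]
          have := sum_fusion hT ht (fun t' => ((φ t' : ℂ) - 1) * a)
          rw [← hadef] at this
          simp only [mul_ite, mul_zero]
          rw [this, ← Finset.sum_mul, ← mul_assoc (a⁻¹ * a⁻¹)]
          congr 1
          rw [mul_comm _ a, ← mul_assoc a⁻¹, inv_mul_cancel₀ hn, one_mul]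
          refine Finset.sum_congr rfl fun n _ => ?_
          rw [tw_apply φ n t]
  have htwne : ∀ n : ↥(Subgroup.normalizer (T : Set G)), tw φ n ≠ 1 := fun n h => hφ (by
    have := congrArg (fun ψ => tw ψ n⁻¹) h
    rw [← tw_mul, inv_mul_cancel, tw_one] at this
    rw [this]
    exact MonoidHom.ext fun _ => rfl)
  have hinner : ∀ n : ↥(Subgroup.normalizer (T : Set G)),
      ∑ t : ↥T, (conj (θ t : ℂ) - 1) * ((tw φ n t : ℂ) - 1) = (if tw φ n = θ then a else 0) + a := by
    intro n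
    have e1 := sum_char_mul_conj (tw φ n) θ
    have e2 := sum_char_mul_conj (1 : Lin T) θ
    have e3 := sum_char_mul_conj (tw φ n) (1 : Lin T)
    rw [if_neg (Ne.symm hθ)] at e2
    rw [if_neg (htwne n)] at e3
    simp only [MonoidHom.one_apply, Units.val_one, one_mul, map_one, mul_one] at e2 e3
    simp only [sub_mul, mul_sub, Finset.sum_sub_distrib, one_mul, mul_one, e2, e3, Finset.sum_const,
      Finset.card_univ, nsmul_eq_mul]
    rw [Finset.sum_congr rfl (fun t _ => mul_comm (conj (θ t : ℂ)) _), e1, ← Nat.card_eq_fintype_card]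
    simp [a]
  push_cast
  rw [key, Finset.sum_congr rfl fun t _ => Finset.mul_sum _ _ _, Finset.sum_comm,
    Finset.sum_congr rfl fun n _ => hinner n, Finset.sum_add_distrib, Finset.sum_const, Finset.card_univ,
    nsmul_eq_mul, ← Nat.card_eq_fintype_card, he, Finset.sum_ite, Finset.sum_const_zero, add_zero, Finset.sum_const,
    nsmul_eq_mul]
  have hcount : ((Finset.univ.filter fun n : ↥(Subgroup.normalizer (T : Set G)) => tw φ n = θ).card : ℂ) =
      if ∃ n, tw φ n = θ then a else 0 := by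
    by_cases h : ∃ n, tw φ n = θ
    · rw [if_pos h, card_tw_eq hT hφ h]
    · rw [if_neg h, Nat.cast_eq_zero, Finset.card_eq_zero, Finset.filter_eq_empty_iff]
      exact fun n _ h1 => h ⟨n, h1⟩
  rw [hcount, Nat.cast_mul, show ((Nat.card ↥T : ℕ) : ℂ) = a from rfl]
  split_ifs <;> field_simp <;> ring

/-- Fused characters have equal differences. -/
theorem dlt_tw [Fintype (Cfsg.IrrCharacter G)] (χ : Cfsg.IrrCharacter G) {φ : Lin T} (hφ : φ ≠ 1)
    (n : ↥(Subgroup.normalizer (T : Set G))) : dlt χ (tw φ n) = dlt χ φ := by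
  have hne : tw φ n ≠ 1 := fun h => hφ (by
    have := congrArg (fun ψ => tw ψ n⁻¹) h
    rw [← tw_mul, inv_mul_cancel, tw_one] at this
    rw [this]
    exact MonoidHom.ext fun _ => rfl)
  have e1 := gram hT he hne hne
  have e2 := gram hT he hne hφ
  have e3 := gram hT he hφ hφ
  rw [if_pos ⟨1, tw_one _⟩] at e1 e3
  rw [if_pos ⟨n, rfl⟩] at e2
  have h0 : ∑ ψ : Cfsg.IrrCharacter G, (dlt ψ (tw φ n) - dlt ψ φ) * (dlt ψ (tw φ n) - dlt ψ φ) = 0 := by
    simp only [sub_mul, mul_sub, Finset.sum_sub_distrib, mul_comm (dlt _ φ) (dlt _ (tw φ n)), e1, e2, e3]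
    ring
  exact sub_eq_zero.1 (mul_self_eq_zero.1
    ((Finset.sum_eq_zero_iff_of_nonneg fun ψ _ => mul_self_nonneg _).1 h0 χ (Finset.mem_univ _)))

end Cfsg.Agent.Lib.ReeCover50.TorusDual
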