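import Cfsg.Agent.Lib.ReeCover50.TraceFormula
import Cfsg.Agent.Lib.Ree.Classes

/-!
In the small Ree groups the trace on the seven-dimensional module separates the classes of
semisimple elements of order greater than two.
-/

set_option autoImplicit false
set_option linter.unusedSectionVars false

namespace Cfsg.Agent.Lib.ReeCover50

open Cfsg.Lie Cfsg.Agent.Lib.LieTwisted Cfsg.Agent.Lib.LieTwisted.Ree
open Cfsg.Agent.Lib.Ree
open scoped Classical

variable {K : Type*} [Field K] [CharP K 3] [Fintype K] {m : ℕ} [hF : Fact (Fintype.card K = 3 ^ (2 * m + 1))]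

/-- The trace in the seven-dimensional representation. -/
noncomputable def trc (g : G K m) : K := (rep7 g).trace

lemma trc_conj (u g : G K m) : trc (u * g * u⁻¹) = trc g := by
  rw [trc, trc, map_mul, map_mul, Matrix.trace_mul_comm, ← mul_assoc, ← map_mul, inv_mul_cancel, map_one, one_mul]

lemma trc_isConj {g h : G K m} (e : IsConj g h) : trc g = trc h := by
  obtain ⟨u, rfl⟩ := isConj_iff.1 e
  exact (trc_conj u g).symm

lemma trc_one : trc (1 : G K m) = 1 := by
  rw [trc, map_one, Matrix.trace_one, Fintype.card_fin]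
  have : (3 : K) = 0 := CharP.cast_eq_zero K 3
  push_cast
  linear_combination 2 * this

/-- The trace is unchanged by the `q`-th power. -/
lemma trc_pow_q (g : G K m) : trc (g ^ Fintype.card K) = trc g := by
  rw [trc, map_pow, FiniteField.trace_pow_card, FiniteField.pow_card]
  rfl

/-- The value of the trace on the big cell. -/
lemma trc_cell (y : Kˣ) (t u v : K) : trc (w0 m * gH y * gU t u v : G K m) =
    -1 + ((y : K) ^ 3 ^ m) ^ 2 / y * (t ^ 3 ^ m) ^ 2 +
      (y : K) / (y : K) ^ 3 ^ m * ((t ^ (3 ^ m + 1) + u ^ 3 ^ m) ^ 2 - t * (t ^ (2 * 3 ^ m + 1) + v ^ 3 ^ m)) +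
      (y : K) ^ 3 ^ m * ((t ^ (2 * 3 ^ m + 1) + v ^ 3 ^ m) ^ 2 + (t ^ (3 ^ m + 1) + u ^ 3 ^ m) * u - t ^ 3 ^ m * v +
        t ^ 3 ^ m * (t ^ (3 ^ m + 1) + u ^ 3 ^ m) * (t ^ (2 * 3 ^ m + 1) + v ^ 3 ^ m) - t ^ 3 ^ m * t * u) := by
  have h : hh (y ^ 3 ^ m) y ∈ chevG2.group K := twisted_le_group (gH y : G K m).2
  have e := trace_cell (y ^ 3 ^ m) y (t ^ 3 ^ m) t (t ^ (3 ^ m + 1) + u ^ 3 ^ m) (t ^ (2 * 3 ^ m + 1) + v ^ 3 ^ m) u v h
  simp only [Units.val_pow_eq_pow_val] at e
  rw [mul_assoc]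
  exact e

lemma theta_pos (m : ℕ) : (3 : ℕ) ^ m ≠ 0 := by positivity

lemma trc_cell_zero (y : Kˣ) (u v : K) : trc (w0 m * gH y * gU 0 u v : G K m) =
    -1 + (y : K) / (y : K) ^ 3 ^ m * (u ^ 3 ^ m) ^ 2 + (y : K) ^ 3 ^ m * ((v ^ 3 ^ m) ^ 2 + u ^ 3 ^ m * u) := by
  rw [trc_cell]
  simp [zero_pow (theta_pos m)]

/-- Every value other than `-1` is taken on `w₀ H Z`. -/
lemma cell_surj {c v : K} (hc : c ≠ -1) (hv : v ≠ 0) :
    ∃ y : Kˣ, trc (w0 m * gH y * gU 0 0 v : G K m) = c ∧ trc (w0 m * gH y * gU 0 0 (-v) : G K m) = c := by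
  set z : K := (c + 1) / (v ^ 3 ^ m) ^ 2
  have hz : z ≠ 0 := div_ne_zero (fun e => hc (by linear_combination e)) (pow_ne_zero _ (pow_ne_zero _ hv))
  have hy : (z ^ (3 * 3 ^ m)) ^ 3 ^ m = z := by rw [← pow_mul, mul_assoc, pow_q hF.out]
  refine ⟨Units.mk0 (z ^ (3 * 3 ^ m)) (pow_ne_zero _ hz), ?_⟩
  have key : ∀ w : K, (w ^ 3 ^ m) ^ 2 = (v ^ 3 ^ m) ^ 2 →
      trc (w0 m * gH (Units.mk0 (z ^ (3 * 3 ^ m)) (pow_ne_zero _ hz)) * gU 0 0 w : G K m) = c := by
    intro w hw
    rw [trc_cell_zero, Units.val_mk0, hy, zero_pow (theta_pos m), hw]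
    have h0 : (v ^ 3 ^ m) ^ 2 ≠ 0 := pow_ne_zero _ (pow_ne_zero _ hv)
    simp only [z]
    field_simp
    ring
  exact ⟨key v rfl, key (-v) (by rw [(odd_pow m).neg_pow, neg_sq])⟩

lemma card_eq_qq : Fintype.card K = qq m := hF.out

/-- The semisimple elements of order greater than two. -/
def setSS (K : Type*) [Field K] [CharP K 3] [Fintype K] (m : ℕ) [Fact (Fintype.card K = 3 ^ (2 * m + 1))] :
    Set (G K m) := setH K m ∪ setA K m ∪ setT K m

lemma trc_setP (hm : 1 ≤ m) {g : G K m} (hg : g ∈ setP K m) : trc g = 1 := by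
  obtain ⟨k, hk⟩ : 9 ∣ Fintype.card K := by
    rw [hF.out, show (9 : ℕ) = 3 ^ 2 from rfl]; exact pow_dvd_pow 3 (by omega)
  rw [← trc_pow_q g, hk, pow_mul, hg.2, one_pow, trc_one]

lemma trc_invA : trc (invA K m) = -1 := by
  have h : hh ((-1 : Kˣ) ^ 3 ^ m) (-1) ∈ chevG2.group K := twisted_le_group (gH (-1) : G K m).2
  have e : trc (invA K m) = (Matrix.diagonal (torD7 ((-1 : Kˣ) ^ 3 ^ m) (-1 : Kˣ))).trace := by
    rw [← actI_hh]
    rfl
  rw [e, Matrix.trace_diagonal, (odd_pow m).neg_one_pow, Fin.sum_univ_seven]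
  simp [torD7]

lemma trc_invol (hm : 1 ≤ m) {g : G K m} (h1 : g ≠ 1) (h2 : g * g = 1) : trc g = -1 := by
  rw [← trc_isConj (isConj_invA hm h1 h2), trc_invA]

lemma trc_setS (hm : 1 ≤ m) {g : G K m} (hg : g ∈ setS K m) : trc g = -1 := by
  have hg' : orderOf g = 6 := hg
  have h6 : Fintype.card K % 6 = 3 := by
    rw [hF.out]
    obtain ⟨j, hj⟩ := (show Odd (3 ^ (2 * m)) from (by decide : Odd 3).pow)
    rw [pow_succ, hj]; omega
  have h3 : orderOf (g ^ 3) = 2 := by rw [orderOf_pow, hg']; norm_num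
  rw [← trc_pow_q g, ← pow_mod_orderOf, hg', h6]
  refine trc_invol hm (fun h => by rw [h, orderOf_one] at h3; exact absurd h3 (by norm_num)) ?_
  rw [← pow_two, ← h3, pow_orderOf_eq_one]

/-- An element whose trace is not `±1` is semisimple of order greater than two. -/
lemma ss_of_trc (hm : 1 ≤ m) {g : G K m} (h1 : trc g ≠ 1) (h2 : trc g ≠ -1) : g ∈ setSS K m := by
  rcases elem_cases hm g with h | h | h | h | h | h | h
  · exact absurd (h ▸ trc_one) h1
  · exact absurd (trc_setP hm h) h1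
  · exact absurd (trc_setS hm h) h2
  · refine absurd ?_ h2
    obtain ⟨u, -, hu⟩ := h
    rw [← trc_conj u g, Set.mem_singleton_iff.1 hu, trc_invA]
  · exact Or.inl (Or.inl h)
  · exact Or.inl (Or.inr h)
  · exact Or.inr h

lemma centralizer_conj_card (u g : G K m) :
    Nat.card ↥(Subgroup.centralizer {u * g * u⁻¹}) = Nat.card ↥(Subgroup.centralizer {g}) := by
  refine (Nat.card_congr ((MulAut.conj u).toEquiv.subtypeEquiv fun z => ?_)).symm
  show z ∈ Subgroup.centralizer {g} ↔ u * z * u⁻¹ ∈ Subgroup.centralizer {u * g * u⁻¹}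
  rw [Subgroup.mem_centralizer_singleton_iff, Subgroup.mem_centralizer_singleton_iff, conj_mul, conj_mul,
    mul_left_inj, mul_right_inj]

lemma card_cent_setH {g : G K m} (hg : g ∈ setH K m) :
    Nat.card ↥(Subgroup.centralizer {g}) = qq m - 1 := by
  obtain ⟨u, -, y, h1, h2, hy⟩ := hg
  rw [← centralizer_conj_card u g, hy, centralizer_gH h1 h2, card_gH_range, qq]

lemma card_cent_setA (hm : 1 ≤ m) {g : G K m} (hg : g ∈ setA K m) :
    Nat.card ↥(Subgroup.centralizer {g}) = qq m + 1 := by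
  obtain ⟨u, -, hd, hE⟩ := hg
  rw [← centralizer_conj_card u g]
  set d := u * g * u⁻¹
  have h4 : d ^ 4 ≠ 1 := fun e => hE ((torD_pow_four hd).2 e)
  have heq : Subgroup.centralizer {d} = torD K m := by
    refine le_antisymm (fun z hz => ?_) fun z hz => ?_
    · rw [← centralizer_torA hm (torD_pow_four hd).1 h4, Subgroup.mem_centralizer_singleton_iff]
      exact (Commute.pow_right (Subgroup.mem_centralizer_singleton_iff.1 hz) 4).eq
    · exact Subgroup.mem_centralizer_singleton_iff.2 (torD_comm z hz d hd)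
  rw [heq, card_torD]

lemma card_cent_classT (hm : 1 ≤ m) {x g : G K m} (hx : IsTElt K m x) (hg : g ∈ classT K m x) :
    Nat.card ↥(Subgroup.centralizer {g}) = Nat.card ↥(Subgroup.centralizer {x}) := by
  obtain ⟨u, -, hu, hu1⟩ := hg
  rw [← centralizer_conj_card u g, centralizer_T_eq hm hx.1 hx.2 rfl hu hu1]

lemma qq_r (m : ℕ) : 3 ^ (m + 1) * 3 ^ (m + 1) = 3 * qq m ∧ 3 ^ (m + 1) ≤ qq m := by
  refine ⟨?_, Nat.pow_le_pow_right (by norm_num) (by omega)⟩
  rw [qq, ← pow_add, ← pow_succ']; congr 1; omega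

lemma card_cent_ss (hm : 1 ≤ m) {g : G K m} (hg : g ∈ setSS K m) :
    Nat.card ↥(Subgroup.centralizer {g}) ≤ qq m + 1 ∨
      Nat.card ↥(Subgroup.centralizer {g}) = qq m + 3 ^ (m + 1) + 1 := by
  rcases hg with (h | h) | h
  · left; rw [card_cent_setH h]; omega
  · left; rw [card_cent_setA hm h]
  · obtain ⟨x, y, hx, hy, -, -, hcx, hcy, hcov⟩ := two_classes (K := K) hm
    rcases hcov h with h' | h'
    · left
      rw [card_cent_classT hm hx h', hcx]
      have := Nat.sub_le (qq m) (3 ^ (m + 1))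
      omega
    · right; rw [card_cent_classT hm hy h', hcy]

lemma class_weight (g : G K m) :
    (Finset.univ.filter fun h : G K m => IsConj g h).card * Nat.card ↥(Subgroup.centralizer {g}) = Nat.card (G K m) := by
  rw [Subgroup.nat_card_centralizer_nat_card_stabilizer]
  have h := MulAction.card_orbit_mul_card_stabilizer_eq_card_group (ConjAct (G K m)) g
  rw [← Nat.card_eq_fintype_card, ← Nat.card_eq_fintype_card, ← Nat.card_eq_fintype_card] at h
  rw [show Nat.card (G K m) = Nat.card (ConjAct (G K m)) from Nat.card_congr ConjAct.toConjAct.toEquiv, ← h]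
  congr 1
  rw [← Fintype.card_subtype, ← Nat.card_eq_fintype_card]
  refine Nat.card_congr (Equiv.subtypeEquivRight fun h => ?_)
  rw [ConjAct.mem_orbit_conjAct]
  exact isConj_comm

/-- There are at most `q - 2` classes of semisimple elements of order greater than two. -/
lemma card_ss_classes (hm : 1 ≤ m) :
    ((Finset.univ.filter fun g : G K m => g ∈ setSS K m).image ConjClasses.mk).card ≤ qq m - 2 := by
  set S := Finset.univ.filter fun g : G K m => g ∈ setSS K m
  set c : G K m → ℕ := fun g => Nat.card ↥(Subgroup.centralizer {g})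
  have hclosed : ∀ (g : G K m) (u : G K m), g ∈ setSS K m → u * g * u⁻¹ ∈ setSS K m := by
    rintro g u ((h | h) | h)
    · exact Or.inl (Or.inl (mem_conjUnion_conj u⁻¹ (by rw [show u⁻¹ * (u * g * u⁻¹) * u⁻¹⁻¹ = g by group]; exact h)))
    · exact Or.inl (Or.inr (mem_conjUnion_conj u⁻¹ (by rw [show u⁻¹ * (u * g * u⁻¹) * u⁻¹⁻¹ = g by group]; exact h)))
    · exact Or.inr ⟨fun e => h.1 (conj_eq_one_iff.1 e), by rw [orderOf_conj']; exact h.2⟩
  have h1 : (S.image ConjClasses.mk).card * Nat.card (G K m) ≤ ∑ g ∈ S, c g := by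
    rw [← Finset.sum_fiberwise_of_maps_to (g := ConjClasses.mk) (t := S.image ConjClasses.mk)
      fun g hg => Finset.mem_image_of_mem _ hg, ← smul_eq_mul, ← Finset.sum_const]
    refine Finset.sum_le_sum fun C hC => ?_
    obtain ⟨g, hg, rfl⟩ := Finset.mem_image.1 hC
    have hsub : (Finset.univ.filter fun h : G K m => IsConj g h) ⊆
        S.filter fun h => ConjClasses.mk h = ConjClasses.mk g := by
      intro h hh
      have hconj := (Finset.mem_filter.1 hh).2
      obtain ⟨u, rfl⟩ := isConj_iff.1 hconj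
      exact Finset.mem_filter.2 ⟨Finset.mem_filter.2 ⟨Finset.mem_univ _, hclosed g u (Finset.mem_filter.1 hg).2⟩,
        ConjClasses.mk_eq_mk_iff_isConj.2 hconj.symm⟩
    refine le_trans (le_of_eq ?_) (Finset.sum_le_sum_of_subset hsub)
    rw [Finset.sum_congr rfl fun h hh => show c h = c g by
      obtain ⟨u, rfl⟩ := isConj_iff.1 (Finset.mem_filter.1 hh).2
      exact centralizer_conj_card u g, Finset.sum_const, smul_eq_mul]
    exact (class_weight g).symm
  obtain ⟨x, y, hx, hy, hNx, hNy, hcx, hcy, hcov⟩ := two_classes (K := K) hm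
  obtain ⟨wx, -, hwx, hSx⟩ := card_classT hm hx
  obtain ⟨wy, -, hwy, hSy⟩ := card_classT hm hy
  have ewx : wx = 6 := Nat.eq_of_mul_eq_mul_left Nat.card_pos (hwx.symm.trans hNx)
  have ewy : wy = 6 := Nat.eq_of_mul_eq_mul_left Nat.card_pos (hwy.symm.trans hNy)
  subst ewx ewy
  let f : Set (G K m) → Finset (G K m) := fun A => Finset.univ.filter fun g => g ∈ A
  have hcard : ∀ A : Set (G K m), (f A).card = A.ncard := fun A => by
    rw [Set.ncard_eq_toFinset_card' A]; congr 1; ext; simp [f]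
  have hsumA : ∀ (A : Set (G K m)) (k : ℕ), (∀ g ∈ A, c g = k) → ∑ g ∈ f A, c g = A.ncard * k := by
    intro A k hk
    rw [Finset.sum_congr rfl fun g hg => hk g (Finset.mem_filter.1 hg).2, Finset.sum_const, hcard, smul_eq_mul]
  have h2 : ∑ g ∈ S, c g ≤ (setH K m).ncard * (qq m - 1) + (setA K m).ncard * (qq m + 1) +
      (classT K m x).ncard * (qq m - 3 ^ (m + 1) + 1) + (classT K m y).ncard * (qq m + 3 ^ (m + 1) + 1) := by
    have hsub : S ⊆ f (setH K m) ∪ f (setA K m) ∪ f (classT K m x) ∪ f (classT K m y) := by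
      intro g hg
      simp only [S, f, Finset.mem_union, Finset.mem_filter, Finset.mem_univ, true_and] at hg ⊢
      rcases hg with (h | h) | h
      · exact Or.inl (Or.inl (Or.inl h))
      · exact Or.inl (Or.inl (Or.inr h))
      · rcases hcov h with h' | h'
        · exact Or.inl (Or.inr h')
        · exact Or.inr h'
    refine (Finset.sum_le_sum_of_subset hsub).trans ?_
    rw [← hsumA _ _ (fun g hg => card_cent_setH hg), ← hsumA _ _ (fun g hg => card_cent_setA hm hg),
      ← hsumA _ _ (fun g hg => (card_cent_classT hm hx hg).trans hcx),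
      ← hsumA _ _ (fun g hg => (card_cent_classT hm hy hg).trans hcy)]
    have hu : ∀ A B : Finset (G K m), ∑ g ∈ A ∪ B, c g ≤ (∑ g ∈ A, c g) + ∑ g ∈ B, c g := fun A B => by
      rw [← Finset.sum_union_inter]; exact Nat.le_add_right _ _
    exact (hu _ _).trans (Nat.add_le_add_right ((hu _ _).trans (Nat.add_le_add_right (hu _ _) _)) _)
  have hH := card_setH (K := K) hm
  have hA := card_setA (K := K) hm
  have hG : 0 < Nat.card (G K m) := Nat.card_pos
  rw [hcx] at hSx
  rw [hcy] at hSy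
  obtain ⟨hr, hrq⟩ := qq_r m
  have hq := qq_ge27 hm
  refine Nat.le_of_mul_le_mul_right ?_ (show 0 < 6 * Nat.card (G K m) by omega)
  refine le_trans (le_of_eq (mul_left_comm _ _ _)) ((Nat.mul_le_mul_left 6 (h1.trans h2)).trans (le_of_eq ?_))
  generalize (setH K m).ncard = a at hH ⊢
  generalize (setA K m).ncard = b at hA ⊢
  generalize (classT K m x).ncard = d at hSx ⊢
  generalize (classT K m y).ncard = e at hSy ⊢
  generalize Nat.card (G K m) = N at hH hA hSx hSy ⊢
  generalize 3 ^ (m + 1) = r at hrq hSx hSy ⊢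
  generalize qq m = q at hq hrq hH hA hSx hSy ⊢
  rw [Nat.add_sub_cancel] at hSy
  zify [show 1 ≤ q by omega, show 3 ≤ q by omega, show 2 ≤ q by omega, hrq, show 4 ≤ q + 1 by omega,
    show 1 ≤ q - r + 1 by omega] at hH hA hSx hSy ⊢
  linear_combination 3 * hH + hA + hSx + hSy

/-- The trace separates the semisimple classes of elements of order greater than two. -/
theorem trc_classes (hm : 1 ≤ m) :
    (∀ g ∈ setSS K m, trc g ≠ 1 ∧ trc g ≠ -1) ∧
      ∀ g ∈ setSS K m, ∀ h : G K m, trc h = trc g → IsConj g h := by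
  set S := Finset.univ.filter fun g : G K m => g ∈ setSS K m
  set I := S.image ConjClasses.mk
  let τ : ConjClasses (G K m) → K := Quotient.lift (trc (K := K) (m := m)) fun a b h => trc_isConj h
  have hτ : ∀ g : G K m, τ (ConjClasses.mk g) = trc g := fun _ => rfl
  set E := ((Finset.univ : Finset K).erase 1).erase (-1)
  have h3 : (3 : K) = 0 := CharP.cast_eq_zero K 3
  have hne : (-1 : K) ≠ 1 := fun e => one_ne_zero (by linear_combination h3 + e : (1 : K) = 0)
  have hE : E.card = qq m - 2 := by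
    rw [Finset.card_erase_of_mem (Finset.mem_erase.2 ⟨hne, Finset.mem_univ _⟩),
      Finset.card_erase_of_mem (Finset.mem_univ _), Finset.card_univ, card_eq_qq (K := K) (m := m)]
    omega
  have hsub : E ⊆ I.image τ := by
    intro c hc
    obtain ⟨h2, hc'⟩ := Finset.mem_erase.1 hc
    have h1 := (Finset.mem_erase.1 hc').1
    obtain ⟨y, hy, -⟩ := cell_surj (m := m) h2 (one_ne_zero (α := K))
    refine Finset.mem_image.2 ⟨_, Finset.mem_image_of_mem _ (Finset.mem_filter.2 ⟨Finset.mem_univ _,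
      ss_of_trc hm (by rw [hy]; exact h1) (by rw [hy]; exact h2)⟩), hy⟩
  have hle : I.card ≤ E.card := hE ▸ card_ss_classes hm
  have hinj : Set.InjOn τ I := Finset.injOn_of_card_image_eq
    (le_antisymm Finset.card_image_le (hle.trans (Finset.card_le_card hsub)))
  have heq : E = I.image τ := Finset.eq_of_subset_of_card_le hsub (Finset.card_image_le.trans hle)
  have hmemI : ∀ g ∈ setSS K m, ConjClasses.mk g ∈ I := fun g hg =>
    Finset.mem_image_of_mem _ (Finset.mem_filter.2 ⟨Finset.mem_univ _, hg⟩)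
  have hval : ∀ g ∈ setSS K m, trc g ≠ 1 ∧ trc g ≠ -1 := fun g hg => by
    have h : trc g ∈ E := heq ▸ Finset.mem_image_of_mem τ (hmemI g hg)
    exact ⟨(Finset.mem_erase.1 (Finset.mem_erase.1 h).2).1, (Finset.mem_erase.1 h).1⟩
  refine ⟨hval, fun g hg h he => ?_⟩
  have hh : h ∈ setSS K m := ss_of_trc hm (by rw [he]; exact (hval g hg).1) (by rw [he]; exact (hval g hg).2)
  exact ConjClasses.mk_eq_mk_iff_isConj.1 (hinj (hmemI g hg) (hmemI h hh) (by rw [hτ, hτ, he]))

end Cfsg.Agent.Lib.ReeCover50
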