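import Cfsg.Agent.Lib.Ree.Rep7

/-!
The trace of the seven-dimensional representation of the small Ree group on the big cell
`w₀ H U`.
-/

set_option autoImplicit false
set_option linter.unusedSectionVars false
set_option linter.unusedSimpArgs false
set_option maxRecDepth 100000

namespace Cfsg.Agent.Lib.ReeCover50

open Cfsg.Lie Cfsg.Agent.Lib.ChevStructure
open Cfsg.Agent.Lib.LieTwisted Cfsg.Agent.Lib.LieTwisted.Isogeny Cfsg.Agent.Lib.LieTwisted.Ree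
open Cfsg.Agent.Lib.LieTwisted.Sparse Cfsg.Agent.Lib.LieTwisted.SparseRoot
open Cfsg.Agent.Lib.Ree

variable {K : Type*} [Field K] [CharP K 3]

/-- The restrictions of the root elements to the ideal of short roots. -/

def lit6 : SMat :=
  [((0, 0), [(1, 0, 0)]), ((1, 1), [(1, 0, 0)]), ((2, 2), [(1, 0, 0)]), ((3, 3), [(1, 0, 0)]), ((4, 4), [(1, 0, 0)]), ((5, 5), [(1, 0, 0)]), ((6, 6), [(1, 0, 0)]),
    ((2, 4), [(-1, 1, 0)]), ((3, 1), [(1, 1, 0)])]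

def lit7 : SMat :=
  [((0, 0), [(1, 0, 0)]), ((1, 1), [(1, 0, 0)]), ((2, 2), [(1, 0, 0)]), ((3, 3), [(1, 0, 0)]), ((4, 4), [(1, 0, 0)]), ((5, 5), [(1, 0, 0)]), ((6, 6), [(1, 0, 0)]),
    ((1, 0), [(1, 1, 0)]), ((0, 2), [(1, 1, 0)]), ((1, 2), [(-1, 2, 0)]), ((4, 6), [(-1, 1, 0)]), ((5, 3), [(1, 1, 0)])]

def lit8 : SMat :=
  [((0, 0), [(1, 0, 0)]), ((1, 1), [(1, 0, 0)]), ((2, 2), [(1, 0, 0)]), ((3, 3), [(1, 0, 0)]), ((4, 4), [(1, 0, 0)]), ((5, 5), [(1, 0, 0)]), ((6, 6), [(1, 0, 0)]),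
    ((3, 0), [(1, 1, 0)]), ((0, 4), [(1, 1, 0)]), ((3, 4), [(-1, 2, 0)]), ((2, 6), [(1, 1, 0)]), ((5, 1), [(-1, 1, 0)])]

def lit9 : SMat :=
  [((0, 0), [(1, 0, 0)]), ((1, 1), [(1, 0, 0)]), ((2, 2), [(1, 0, 0)]), ((3, 3), [(1, 0, 0)]), ((4, 4), [(1, 0, 0)]), ((5, 5), [(1, 0, 0)]), ((6, 6), [(1, 0, 0)]),
    ((5, 0), [(-1, 1, 0)]), ((0, 6), [(-1, 1, 0)]), ((5, 6), [(-1, 2, 0)]), ((1, 4), [(1, 1, 0)]), ((3, 2), [(-1, 1, 0)])]

def lit10 : SMat :=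
  [((0, 0), [(1, 0, 0)]), ((1, 1), [(1, 0, 0)]), ((2, 2), [(1, 0, 0)]), ((3, 3), [(1, 0, 0)]), ((4, 4), [(1, 0, 0)]), ((5, 5), [(1, 0, 0)]), ((6, 6), [(1, 0, 0)]),
    ((1, 6), [(1, 1, 0)]), ((5, 2), [(-1, 1, 0)])]

def lit11 : SMat :=
  [((0, 0), [(1, 0, 0)]), ((1, 1), [(1, 0, 0)]), ((2, 2), [(1, 0, 0)]), ((3, 3), [(1, 0, 0)]), ((4, 4), [(1, 0, 0)]), ((5, 5), [(1, 0, 0)]), ((6, 6), [(1, 0, 0)]),
    ((3, 6), [(1, 1, 0)]), ((5, 4), [(-1, 1, 0)])]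

lemma root_ok : ∀ p ∈ [(6, lit6), (7, lit7), (8, lit8), (9, lit9), (10, lit10), (11, lit11)],
    (blkS dataG2.I (xS chevG2 p.1 (1, 1, 0))).beqMod 3 p.2 = true := by decide +kernel

/-- The action on the ideal. -/
noncomputable def actI (x : GL chevG2.Idx K) : Matrix (Fin 7) (Fin 7) K :=
  piI dataG2_good (mt (D := chevG2) x)

lemma actI_mul (x : GL chevG2.Idx K) {y : GL chevG2.Idx K} (hy : y ∈ chevG2.group K) :
    actI (x * y) = actI x * actI y := by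
  haveI : CharP K dataG2.p := ‹CharP K 3›
  rw [actI, mt_mul]
  exact piI_mul dataG2_good (tri_of_mem dataG2_good hy)

lemma actI_one : actI (1 : GL chevG2.Idx K) = 1 := by rw [actI, mt_one]; exact piI_one dataG2_good

lemma actI_root (r : Rt chevG2) (L : SMat) (h : (blkS dataG2.I (xS chevG2 r.val (1, 1, 0))).beqMod 3 L = true) (t : K) :
    actI (xe r t) = L.toMatrix 7 t 0 := by
  haveI : CharP K dataG2.p := ‹CharP K 3›
  rw [actI, piI_root dataG2_good (r := r.val) r.isLt (xe_val r t)]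
  exact toMatrix_eq_of_beqMod (p := 3) _ _ h 7

lemma actI_x11 (g : K) : actI (xe 11 g) =
    !![1, 0, 0, 0, 0, 0, 0;
      0, 1, 0, 0, 0, 0, 0;
      0, 0, 1, 0, 0, 0, 0;
      0, 0, 0, 1, 0, 0, g;
      0, 0, 0, 0, 1, 0, 0;
      0, 0, 0, 0, -g, 1, 0;
      0, 0, 0, 0, 0, 0, 1] := by
  rw [actI_root 11 lit11 (root_ok (11, lit11) (by simp)) g]
  ext i j
  fin_cases i <;> fin_cases j <;>
    simp [lit11, SMat.toMatrix, Poly.eval, Matrix.single_apply, Matrix.sum_apply]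

lemma actI_x10 (f : K) : actI (xe 10 f) =
    !![1, 0, 0, 0, 0, 0, 0;
      0, 1, 0, 0, 0, 0, f;
      0, 0, 1, 0, 0, 0, 0;
      0, 0, 0, 1, 0, 0, 0;
      0, 0, 0, 0, 1, 0, 0;
      0, 0, -f, 0, 0, 1, 0;
      0, 0, 0, 0, 0, 0, 1] := by
  rw [actI_root 10 lit10 (root_ok (10, lit10) (by simp)) f]
  ext i j
  fin_cases i <;> fin_cases j <;>
    simp [lit10, SMat.toMatrix, Poly.eval, Matrix.single_apply, Matrix.sum_apply]

lemma actI_x9 (d : K) : actI (xe 9 d) =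
    !![1, 0, 0, 0, 0, 0, -d;
      0, 1, 0, 0, d, 0, 0;
      0, 0, 1, 0, 0, 0, 0;
      0, 0, -d, 1, 0, 0, 0;
      0, 0, 0, 0, 1, 0, 0;
      -d, 0, 0, 0, 0, 1, -d ^ 2;
      0, 0, 0, 0, 0, 0, 1] := by
  rw [actI_root 9 lit9 (root_ok (9, lit9) (by simp)) d]
  ext i j
  fin_cases i <;> fin_cases j <;>
    simp [lit9, SMat.toMatrix, Poly.eval, Matrix.single_apply, Matrix.sum_apply]

lemma actI_x8 (c : K) : actI (xe 8 c) =
    !![1, 0, 0, 0, c, 0, 0;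
      0, 1, 0, 0, 0, 0, 0;
      0, 0, 1, 0, 0, 0, c;
      c, 0, 0, 1, -c ^ 2, 0, 0;
      0, 0, 0, 0, 1, 0, 0;
      0, -c, 0, 0, 0, 1, 0;
      0, 0, 0, 0, 0, 0, 1] := by
  rw [actI_root 8 lit8 (root_ok (8, lit8) (by simp)) c]
  ext i j
  fin_cases i <;> fin_cases j <;>
    simp [lit8, SMat.toMatrix, Poly.eval, Matrix.single_apply, Matrix.sum_apply]

lemma actI_x6 (b : K) : actI (xe 6 b) =
    !![1, 0, 0, 0, 0, 0, 0;
      0, 1, 0, 0, 0, 0, 0;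
      0, 0, 1, 0, -b, 0, 0;
      0, b, 0, 1, 0, 0, 0;
      0, 0, 0, 0, 1, 0, 0;
      0, 0, 0, 0, 0, 1, 0;
      0, 0, 0, 0, 0, 0, 1] := by
  rw [actI_root 6 lit6 (root_ok (6, lit6) (by simp)) b]
  ext i j
  fin_cases i <;> fin_cases j <;>
    simp [lit6, SMat.toMatrix, Poly.eval, Matrix.single_apply, Matrix.sum_apply]

lemma actI_x7 (a : K) : actI (xe 7 a) =
    !![1, 0, a, 0, 0, 0, 0;
      a, 1, -a ^ 2, 0, 0, 0, 0;
      0, 0, 1, 0, 0, 0, 0;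
      0, 0, 0, 1, 0, 0, 0;
      0, 0, 0, 0, 1, 0, -a;
      0, 0, 0, a, 0, 1, 0;
      0, 0, 0, 0, 0, 0, 1] := by
  rw [actI_root 7 lit7 (root_ok (7, lit7) (by simp)) a]
  ext i j
  fin_cases i <;> fin_cases j <;>
    simp [lit7, SMat.toMatrix, Poly.eval, Matrix.single_apply, Matrix.sum_apply]

lemma actI_tail10 (f g : K) : actI (xe 10 f * (xe 11 g)) =
    !![1, 0, 0, 0, 0, 0, 0;
      0, 1, 0, 0, 0, 0, f;
      0, 0, 1, 0, 0, 0, 0;
      0, 0, 0, 1, 0, 0, g;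
      0, 0, 0, 0, 1, 0, 0;
      0, 0, -f, 0, -g, 1, 0;
      0, 0, 0, 0, 0, 0, 1] := by
  rw [actI_mul _ (by repeat' first | exact xe_mem _ _ | apply mul_mem), actI_x10, actI_x11 g]
  ext i j
  fin_cases i <;> fin_cases j <;> simp [Matrix.mul_apply, Fin.sum_univ_seven] <;> ring

lemma actI_tail9 (d f g : K) : actI (xe 9 d * (xe 10 f * (xe 11 g))) =
    !![1, 0, 0, 0, 0, 0, -d;
      0, 1, 0, 0, d, 0, f;
      0, 0, 1, 0, 0, 0, 0;
      0, 0, -d, 1, 0, 0, g;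
      0, 0, 0, 0, 1, 0, 0;
      -d, 0, -f, 0, -g, 1, -d ^ 2;
      0, 0, 0, 0, 0, 0, 1] := by
  rw [actI_mul _ (by repeat' first | exact xe_mem _ _ | apply mul_mem), actI_x9, actI_tail10 f g]
  ext i j
  fin_cases i <;> fin_cases j <;> simp [Matrix.mul_apply, Fin.sum_univ_seven] <;> ring

lemma actI_tail8 (c d f g : K) : actI (xe 8 c * (xe 9 d * (xe 10 f * (xe 11 g)))) =
    !![1, 0, 0, 0, c, 0, -d;
      0, 1, 0, 0, d, 0, f;
      0, 0, 1, 0, 0, 0, c;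
      c, 0, -d, 1, -c ^ 2, 0, g - c * d;
      0, 0, 0, 0, 1, 0, 0;
      -d, -c, -f, 0, -g - c * d, 1, -d ^ 2 - c * f;
      0, 0, 0, 0, 0, 0, 1] := by
  rw [actI_mul _ (by repeat' first | exact xe_mem _ _ | apply mul_mem), actI_x8, actI_tail9 d f g]
  ext i j
  fin_cases i <;> fin_cases j <;> simp [Matrix.mul_apply, Fin.sum_univ_seven] <;> ring

lemma actI_tail6 (b c d f g : K) : actI (xe 6 b * (xe 8 c * (xe 9 d * (xe 10 f * (xe 11 g))))) =
    !![1, 0, 0, 0, c, 0, -d;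
      0, 1, 0, 0, d, 0, f;
      0, 0, 1, 0, -b, 0, c;
      c, b, -d, 1, -c ^ 2 + b * d, 0, g - c * d + b * f;
      0, 0, 0, 0, 1, 0, 0;
      -d, -c, -f, 0, -g - c * d, 1, -d ^ 2 - c * f;
      0, 0, 0, 0, 0, 0, 1] := by
  rw [actI_mul _ (by repeat' first | exact xe_mem _ _ | apply mul_mem), actI_x6, actI_tail8 c d f g]
  ext i j
  fin_cases i <;> fin_cases j <;> simp [Matrix.mul_apply, Fin.sum_univ_seven] <;> ring

lemma actI_tail7 (a b c d f g : K) : actI (xe 7 a * (xe 6 b * (xe 8 c * (xe 9 d * (xe 10 f * (xe 11 g)))))) =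
    !![1, 0, a, 0, c - a * b, 0, -d + a * c;
      a, 1, -a ^ 2, 0, d + a * c + a ^ 2 * b, 0, f - a * d - a ^ 2 * c;
      0, 0, 1, 0, -b, 0, c;
      c, b, -d, 1, -c ^ 2 + b * d, 0, g - c * d + b * f;
      0, 0, 0, 0, 1, 0, -a;
      -d + a * c, -c + a * b, -f - a * d, a, -g - c * d - a * c ^ 2 + a * b * d, 1, -d ^ 2 - c * f + a * g - a * c * d + a * b * f;
      0, 0, 0, 0, 0, 0, 1] := by
  rw [actI_mul _ (by repeat' first | exact xe_mem _ _ | apply mul_mem), actI_x7, actI_tail6 b c d f g]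
  ext i j
  fin_cases i <;> fin_cases j <;> simp [Matrix.mul_apply, Fin.sum_univ_seven] <;> ring

/-- The restriction of the Weyl element. -/
def litN : SMat :=
  [((0, 0), [(-1, 0, 0)]), ((1, 2), [(-1, 0, 0)]), ((2, 1), [(-1, 0, 0)]), ((3, 4), [(-1, 0, 0)]),
    ((4, 3), [(-1, 0, 0)]), ((5, 6), [(-1, 0, 0)]), ((6, 5), [(-1, 0, 0)])]

/-- The product of the six factors of the Weyl element. -/
def wordN : SMat :=
  (blkS dataG2.I (xS chevG2 8 (1, 0, 0))).mul ((blkS dataG2.I (xS chevG2 10 (1, 0, 0))).mul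
    ((blkS dataG2.I (xS chevG2 3 (-1, 0, 0))).mul ((blkS dataG2.I (xS chevG2 1 (-1, 0, 0))).mul
      ((blkS dataG2.I (xS chevG2 8 (1, 0, 0))).mul (blkS dataG2.I (xS chevG2 10 (1, 0, 0)))))))

lemma wordN_ok : wordN.beqMod 3 litN = true := by decide +kernel

lemma actI_const (r : Rt chevG2) (c : ℤ) :
    actI (xe r (c : K)) = (blkS dataG2.I (xS chevG2 r.val (c, 0, 0))).toMatrix 7 0 0 := by
  haveI : CharP K dataG2.p := ‹CharP K 3›
  rw [actI, piI, Isogeny.mt, xe_val, show ((c : K)) = (c : K) * (0 : K) ^ 0 * (0 : K) ^ 0 by simp,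
    toFin_x chevG2 (dataG2_good.wf r.val r.isLt) (c, 0, 0) (0 : K) 0]
  exact (toMatrix_blkS dataG2.I dataG2_good.ltI dataG2_good.ndI _ _ _).symm

lemma actI_n0 : actI (n0 : GL chevG2.Idx K) = litN.toMatrix 7 (0 : K) 0 := by
  have e : (n0 : GL chevG2.Idx K) = xe 8 ((1 : ℤ) : K) * (xe 10 ((1 : ℤ) : K) * (xe 3 ((-1 : ℤ) : K) *
      (xe 1 ((-1 : ℤ) : K) * (xe 8 ((1 : ℤ) : K) * xe 10 ((1 : ℤ) : K))))) := by simp [n0]
  rw [e, actI_mul, actI_mul, actI_mul, actI_mul, actI_mul, actI_const, actI_const, actI_const, actI_const,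
    ← toMatrix_mul, ← toMatrix_mul, ← toMatrix_mul, ← toMatrix_mul, ← toMatrix_mul]
  · exact toMatrix_eq_of_beqMod (p := 3) _ _ wordN_ok 7
  all_goals first
    | decide +kernel
    | (repeat' first | exact xe_mem _ _ | apply mul_mem)

/-- The diagonal of a torus element. -/
noncomputable def torD7 (x y : Kˣ) : Fin 7 → K :=
  ![1, (x : K) ^ 2 / y, (y : K) / (x : K) ^ 2, (y : K) / x, (x : K) / y, (x : K), (x : K)⁻¹]

/-- The roots of the seven coordinates. -/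
def coordRt : Fin 7 → chevG2.Idx :=
  ![Sum.inl ⟨0, by decide⟩, Sum.inr 7, Sum.inr 4, Sum.inr 8, Sum.inr 3, Sum.inr 9, Sum.inr 2]

lemma actI_hh (x y : Kˣ) : actI (hh x y) = Matrix.diagonal (torD7 x y) := by
  have hidx : ∀ i : Fin 7, (idxFin chevG2).symm (emb dataG2.I dataG2_good.ltI i) = coordRt i := by decide
  ext i j
  show ((hh x y : GL chevG2.Idx K) : Matrix chevG2.Idx chevG2.Idx K) ((idxFin chevG2).symm (emb dataG2.I dataG2_good.ltI i))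
    ((idxFin chevG2).symm (emb dataG2.I dataG2_good.ltI j)) = _
  erw [hidx i, hidx j]
  rw [hh_eq_diag]
  show Matrix.diagonal _ (coordRt i) (coordRt j) = _
  have hinj : Function.Injective coordRt := by decide
  rw [Matrix.diagonal_apply, Matrix.diagonal_apply]
  by_cases e : i = j
  swap
  · rw [if_neg e, if_neg fun h => e (hinj h)]
  subst e
  rw [if_pos rfl, if_pos rfl]
  have h7 : ∀ p ∈ [((7 : Rt chevG2), (2 : ℤ)), (4, -2), (8, -1), (3, 1), (9, 1), (2, -1)],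
      pr chevG2 (7 : Rt chevG2) p.1 = p.2 := by decide +kernel
  have h6 : ∀ p ∈ [((7 : Rt chevG2), (-1 : ℤ)), (4, 1), (8, 1), (3, -1), (9, 0), (2, 0)],
      pr chevG2 (6 : Rt chevG2) p.1 = p.2 := by decide +kernel
  simp only [List.forall_mem_cons, List.not_mem_nil, IsEmpty.forall_iff, implies_true, and_true] at h7 h6
  fin_cases i <;> simp [coordRt, torD7, h7, h6, zpow_neg, div_eq_mul_inv, mul_comm, zpow_ofNat]

/-- The trace on the big cell, in the coordinates of the Chevalley group. -/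
theorem trace_cell (x y : Kˣ) (a b c d f g : K) (hh' : hh x y ∈ chevG2.group K) :
    (actI (n0 * (hh x y * ordP a b c d f g))).trace = -1 + (x : K) ^ 2 / y * a ^ 2 +
      (y : K) / x * (c ^ 2 - b * d) + (x : K) * (d ^ 2 + c * f - a * g + a * c * d - a * b * f) := by
  have hU : ordP a b c d f g ∈ chevG2.group K := by
    rw [ordP]; repeat' first | exact xe_mem _ _ | apply mul_mem
  rw [actI_mul _ (mul_mem hh' hU), actI_mul _ hU, actI_n0, actI_hh, ordP, actI_tail7]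
  simp [Matrix.trace, Matrix.mul_apply, Fin.sum_univ_seven, litN, SMat.toMatrix, Poly.eval, Matrix.single_apply,
    Matrix.sum_apply, torD7, Matrix.diagonal]
  ring

end Cfsg.Agent.Lib.ReeCover50
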