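import Cfsg.Agent.Lib.ReeCover50.TraceClass
import Cfsg.Agent.Lib.ReeTori.Unip
import Cfsg.Agent.Lib.ExcDeg48.Ree

/-!
Elements of the root group as products of two conjugates of a semisimple element, and the orders
of the centralisers of the elements of order six and nine.
-/

set_option autoImplicit false
set_option linter.unusedSectionVars false

namespace Cfsg.Agent.Lib.ReeCover50

open Cfsg.Lie Cfsg.Agent.Lib.LieTwisted Cfsg.Agent.Lib.LieTwisted.Ree
open Cfsg.Agent.Lib.Ree
open scoped Classical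

variable {K : Type*} [Field K] [CharP K 3] [Fintype K] {m : ℕ} [hF : Fact (Fintype.card K = 3 ^ (2 * m + 1))]

/-- A product of two conjugates. -/
def Covered (x g : G K m) : Prop := ∃ u v : G K m, g = (u * x * u⁻¹) * (v * x * v⁻¹)

lemma covered_conj {x g : G K m} (c : G K m) (h : Covered x g) : Covered x (c * g * c⁻¹) := by
  obtain ⟨u, v, rfl⟩ := h
  exact ⟨c * u, c * v, by group⟩

lemma covered_of_isConj {x g h : G K m} (e : IsConj g h) (hg : Covered x g) : Covered x h := by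
  obtain ⟨c, rfl⟩ := isConj_iff.1 e
  exact covered_conj c hg

lemma trc_inv_eq (hm : 1 ≤ m) {x : G K m} (hx : x ∈ setSS K m) : IsConj x x⁻¹ := by
  have hxi : x⁻¹ ∈ setSS K m := by
    rcases hx with (⟨u, -, y, h1, h2, hy⟩ | ⟨u, -, hd, hE⟩) | ⟨h1, h2⟩
    · refine Or.inl (Or.inl ⟨u, Subgroup.mem_top _, y⁻¹, fun e => h1 (inv_eq_one.1 e), fun e => h2 ?_, ?_⟩)
      · rw [← inv_inv y, e, inv_neg_one]
      · rw [map_inv, ← hy]; group
    · refine Or.inl (Or.inr ⟨u, Subgroup.mem_top _, ?_, fun h => hE ?_⟩)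
      · rw [show u * x⁻¹ * u⁻¹ = (u * x * u⁻¹)⁻¹ by group]; exact inv_mem hd
      · rw [show u * x * u⁻¹ = (u * x⁻¹ * u⁻¹)⁻¹ by group]; exact inv_mem h
    · exact Or.inr ⟨fun e => h1 (inv_eq_one.1 e), by rw [orderOf_inv]; exact h2⟩
  obtain ⟨hval, hsep⟩ := trc_classes (K := K) hm
  -- the representation preserves a form: compare the traces of `w₀`-conjugate cell elements
  obtain ⟨y, hy, -⟩ := cell_surj (m := m) (hval x hx).2 (one_ne_zero (α := K))
  obtain ⟨y', hy', -⟩ := cell_surj (m := m) (hval x⁻¹ hxi).2 (one_ne_zero (α := K))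
  obtain ⟨y'', hy'', hy₂⟩ := cell_surj (m := m) (hval x hx).2 (one_ne_zero (α := K))
  have h1 : IsConj x (w0 m * gH y'' * gU 0 0 1) := hsep x hx _ hy''
  refine h1.trans (IsConj.trans ?_ (isConj_inv_inv (hsep x hx _ hy₂)).symm)
  -- `(w₀ h u)⁻¹ = u⁻¹ w₀ h`
  refine isConj_iff.2 ⟨(gU 0 0 1 : G K m), ?_⟩
  have hv : (gU 0 0 (-1) : G K m) = (gU 0 0 1)⁻¹ := by rw [gU0_inv, neg_zero]
  have hh : (w0 m * gH y'' : G K m)⁻¹ = w0 m * gH y'' := by
    rw [_root_.mul_inv_rev, w0_inv, ← map_inv, gH_w0, inv_inv]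
  rw [hv, _root_.mul_inv_rev, inv_inv, hh]
  group
where
  isConj_inv_inv {a b : G K m} (h : IsConj a b) : IsConj a⁻¹ b⁻¹ := by
    obtain ⟨c, rfl⟩ := isConj_iff.1 h
    exact isConj_iff.2 ⟨c, by group⟩

/-- Two elements with the trace of `x` give a product of two conjugates of `x`. -/
lemma covered_of_trc (hm : 1 ≤ m) {x a b : G K m} (hx : x ∈ setSS K m) (ha : trc a = trc x) (hb : trc b = trc x) :
    Covered x (a⁻¹ * b) := by
  obtain ⟨-, hsep⟩ := trc_classes (K := K) hm
  obtain ⟨u, hu⟩ := isConj_iff.1 ((trc_inv_eq hm hx).trans (trc_inv_eq.isConj_inv_inv (hsep x hx a ha)))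
  obtain ⟨v, hv⟩ := isConj_iff.1 (hsep x hx b hb)
  exact ⟨u, v, by rw [hu, hv]⟩

lemma covered_inv (hm : 1 ≤ m) {x g : G K m} (hx : x ∈ setSS K m) (h : Covered x g) : Covered x g⁻¹ := by
  obtain ⟨u, v, rfl⟩ := h
  obtain ⟨c, hc⟩ := isConj_iff.1 (trc_inv_eq hm hx)
  refine ⟨v * c, u * c, ?_⟩
  have e : ∀ a : G K m, a * c * x * (a * c)⁻¹ = a * x⁻¹ * a⁻¹ := fun a => by rw [← hc]; group
  rw [e, e]
  group

/-- The central elements of the root group. -/
theorem covered_center (hm : 1 ≤ m) {x : G K m} (hx : x ∈ setSS K m) {w : K} (hw : w ≠ 0) :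
    Covered x (gU 0 0 w) := by
  obtain ⟨hval, -⟩ := trc_classes (K := K) hm
  obtain ⟨y, h1, h2⟩ := cell_surj (m := m) (hval x hx).2 hw
  have h := covered_of_trc hm hx h1 h2
  have e : (w0 m * gH y * gU 0 0 w : G K m)⁻¹ * (w0 m * gH y * gU 0 0 (-w)) = gU 0 0 w := by
    rw [_root_.mul_inv_rev, gU0_inv, mul_assoc, inv_mul_cancel_left, gU0_mul, neg_zero, add_zero]
    congr 1
    have h3 : (3 : K) = 0 := CharP.cast_eq_zero K 3
    linear_combination -w * h3
  rwa [e] at h

lemma conj_class_card {x : G K m} (hm : 1 ≤ m) (hx : x ∈ setSS K m) :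
    (Finset.univ.filter fun g : G K m => trc g = trc x).card * Nat.card ↥(Subgroup.centralizer {x}) =
      Nat.card (G K m) := by
  rw [← class_weight x]
  congr 2
  refine Finset.filter_congr fun g _ => ⟨fun h => (trc_classes hm).2 x hx g h, fun h => (trc_isConj h).symm⟩

/-- The cell elements with the trace of `x`. -/
noncomputable def cellSet (x : G K m) : Finset (Kˣ × K × K × K) :=
  Finset.univ.filter fun p => trc (w0 m * gH p.1 * gU p.2.1 p.2.2.1 p.2.2.2 : G K m) = trc x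

lemma card_cellSet (hm : 1 ≤ m) {x : G K m} (hx : x ∈ setSS K m) :
    Nat.card (G K m) ≤ (qq m ^ 3 * (qq m - 1) + qq m ^ 3 * (cellSet x).card) * Nat.card ↥(Subgroup.centralizer {x}) := by
  rw [← conj_class_card hm hx]
  refine Nat.mul_le_mul_right _ ?_
  have hB : (Finset.univ.filter fun g : G K m => g ∈ B1 (K := K) m).card = qq m ^ 3 * (qq m - 1) := by
    rw [← card_B1 (K := K), Nat.card_eq_fintype_card, Fintype.card_subtype]
  let φ : (K × K × K) × (Kˣ × K × K × K) → G K m := fun p =>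
    gU p.1.1 p.1.2.1 p.1.2.2 * (w0 m * gH p.2.1 * gU p.2.2.1 p.2.2.2.1 p.2.2.2.2) * (gU p.1.1 p.1.2.1 p.1.2.2)⁻¹
  have hsub : (Finset.univ.filter fun g : G K m => trc g = trc x) ⊆
      (Finset.univ.filter fun g : G K m => g ∈ B1 (K := K) m) ∪
        ((Finset.univ : Finset (K × K × K)) ×ˢ cellSet x).image φ := by
    intro g hg
    rcases gcases g with ⟨t, u, v, y, rfl⟩ | ⟨t, u, v, y, t', u', v', rfl⟩
    · exact Finset.mem_union_left _ (Finset.mem_filter.2 ⟨Finset.mem_univ _, mem_B1_iff.2 ⟨t, u, v, y, rfl⟩⟩)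
    · refine Finset.mem_union_right _ (Finset.mem_image.2 ?_)
      obtain ⟨a, b, e⟩ := gU_mul_exists (m := m) t' u' v' t u v
      have heq : (gU t u v : G K m) * (w0 m * gH y⁻¹ * gU (t' + t) a b) * (gU t u v)⁻¹ =
          gU t u v * gH y * w0 m * gU t' u' v' := by
        rw [← e, ← gH_w0]
        group
      refine ⟨((t, u, v), (y⁻¹, t' + t, a, b)), Finset.mem_product.2 ⟨Finset.mem_univ _,
        Finset.mem_filter.2 ⟨Finset.mem_univ _, ?_⟩⟩, heq⟩
      have h := (Finset.mem_filter.1 hg).2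
      rw [← heq, trc_conj] at h
      exact h
  refine (Finset.card_le_card hsub).trans ((Finset.card_union_le _ _).trans ?_)
  rw [hB]
  refine Nat.add_le_add_left (Finset.card_image_le.trans (le_of_eq ?_)) _
  rw [Finset.card_product, Finset.card_univ, Fintype.card_prod, Fintype.card_prod, card_eq_qq (K := K) (m := m)]
  ring

open Polynomial in
lemma roots_in_v (hm : 1 ≤ m) (y : Kˣ) (t u c : K) :
    (Finset.univ.filter fun v : K => trc (w0 m * gH y * gU t u v : G K m) = c).card ≤ 2 * 3 ^ m := by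
  set s := 3 ^ m
  have hs : 3 ≤ s := by
    calc 3 = 3 ^ 1 := (pow_one 3).symm
      _ ≤ 3 ^ m := Nat.pow_le_pow_right (by norm_num) hm
  set a := t ^ s
  set c' := t ^ (s + 1) + u ^ s
  set e := t ^ (2 * s + 1)
  set β := (y : K) / (y : K) ^ s
  set γ := (y : K) ^ s
  set A := γ * (2 * e + a * c') - β * t
  set B := -γ * a
  set D := -1 + ((y : K) ^ s) ^ 2 / y * a ^ 2 + β * (c' ^ 2 - t * e) +
    γ * (e ^ 2 + c' * u + a * c' * e - a * t * u) - c
  set P : K[X] := C γ * X ^ (2 * s) + C A * X ^ s + C B * X + C D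
  have hγ : γ ≠ 0 := pow_ne_zero _ y.ne_zero
  have hcoef : P.coeff (2 * s) = γ := by
    simp [P, coeff_X_pow, coeff_X, coeff_C, show ¬(2 * s = s) by omega, show ¬(1 = 2 * s) by omega,
      show ¬(2 * s = 0) by omega]
  have hP : P ≠ 0 := fun h => hγ (by rw [← hcoef, h, coeff_zero])
  have hdeg : P.natDegree ≤ 2 * s := by
    refine natDegree_le_iff_coeff_eq_zero.2 fun N hN => ?_
    simp [P, coeff_X_pow, coeff_X, coeff_C, show ¬(N = 2 * s) by omega, show ¬(N = s) by omega,
      show ¬(1 = N) by omega, show ¬(N = 0) by omega]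
  refine (Finset.card_le_card (t := P.roots.toFinset) fun v hv => ?_).trans
    ((Multiset.toFinset_card_le _).trans ((card_roots' P).trans hdeg))
  rw [Multiset.mem_toFinset, mem_roots hP, IsRoot.def]
  have h := (Finset.mem_filter.1 hv).2
  rw [trc_cell] at h
  simp only [P, eval_add, eval_mul, eval_C, eval_X, eval_pow]
  simp only [A, B, D, pow_mul]
  rw [← h]
  ring

/-- Some non-central element of order three is covered. -/
lemma exists_covered_three (hm : 1 ≤ m) {x : G K m} (hx : x ∈ setSS K m) :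
    ∃ s w : K, s ≠ 0 ∧ Covered x (gU 0 s w) := by
  by_contra hno
  push Not at hno
  have hsame : ∀ (y : Kˣ) (t u v u' v' : K), (y, t, u, v) ∈ cellSet x → (y, t, u', v') ∈ cellSet x → u = u' := by
    intro y t u v u' v' h1 h2
    by_contra hne
    refine hno (u' - u) (v' - v) (sub_ne_zero.2 (Ne.symm hne)) ?_
    have h := covered_of_trc hm hx (Finset.mem_filter.1 h1).2 (Finset.mem_filter.1 h2).2
    have e : (gU t u v : G K m) * gU 0 (u' - u) (v' - v) = gU t u' v' := by
      rw [ReeTori.gU_mul]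
      congr 1
      · rw [add_zero]
      · simp [zero_pow (theta_pos m)]
      · simp [zero_pow (theta_pos m)]
    rw [← e] at h
    simpa [mul_assoc] using h
  have hS : (cellSet x).card ≤ (qq m - 1) * qq m * (2 * 3 ^ m) := by
    have hmaps : ∀ p ∈ cellSet x, (p.1, p.2.1) ∈ (Finset.univ : Finset (Kˣ × K)) := fun _ _ => Finset.mem_univ _
    rw [Finset.card_eq_sum_card_fiberwise hmaps]
    refine (Finset.sum_le_card_nsmul _ _ (2 * 3 ^ m) fun q _ => ?_).trans (le_of_eq ?_)
    · obtain ⟨y, t⟩ := q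
      rcases Finset.eq_empty_or_nonempty ((cellSet x).filter fun p => (p.1, p.2.1) = (y, t)) with h | ⟨p, hp⟩
      · rw [h]; simp
      · obtain ⟨hp1, hp2⟩ := Finset.mem_filter.1 hp
        obtain ⟨y', t', u, v⟩ := p
        simp only [Prod.mk.injEq] at hp2
        obtain ⟨rfl, rfl⟩ := hp2
        refine le_trans ?_ (roots_in_v hm y' t' u (trc x))
        refine Finset.card_le_card_of_injOn (fun p => p.2.2.2) (fun p' hp' => ?_) fun p1 hp1' p2 hp2' e => ?_
        · obtain ⟨h1, h2⟩ := Finset.mem_filter.1 hp'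
          obtain ⟨y1, t1, u1, v1⟩ := p'
          simp only [Prod.mk.injEq] at h2
          obtain ⟨rfl, rfl⟩ := h2
          obtain rfl := hsame _ _ _ _ _ _ hp1 h1
          exact Finset.mem_filter.2 ⟨Finset.mem_univ _, (Finset.mem_filter.1 h1).2⟩
        · obtain ⟨h1, h2⟩ := Finset.mem_filter.1 hp1'
          obtain ⟨h3, h4⟩ := Finset.mem_filter.1 hp2'
          obtain ⟨y1, t1, u1, v1⟩ := p1
          obtain ⟨y2, t2, u2, v2⟩ := p2
          simp only [Prod.mk.injEq] at h2 h4 e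
          obtain ⟨rfl, rfl⟩ := h2
          obtain ⟨rfl, rfl⟩ := h4
          rw [← hsame _ _ _ _ _ _ hp1 h1, ← hsame _ _ _ _ _ _ hp1 h3, e]
    · rw [Finset.card_univ, Fintype.card_prod, Fintype.card_units, card_eq_qq (K := K) (m := m), smul_eq_mul]
  have hcx : Nat.card ↥(Subgroup.centralizer {x}) ≤ qq m + 3 ^ (m + 1) + 1 := by
    have := Nat.zero_le (3 ^ (m + 1))
    rcases card_cent_ss hm hx with h | h <;> omega
  have hG := (card_cellSet hm hx).trans (Nat.mul_le_mul (Nat.add_le_add_left (Nat.mul_le_mul_left _ hS) _) hcx)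
  rw [card_G'] at hG
  have hT := tT_add m
  obtain ⟨hr, hrq⟩ := qq_r m
  have hs : 3 ^ (m + 1) = 3 * 3 ^ m := by rw [pow_succ']
  have hs3 : 3 ≤ 3 ^ m := by
    calc 3 = 3 ^ 1 := (pow_one 3).symm
      _ ≤ 3 ^ m := Nat.pow_le_pow_right (by norm_num) hm
  rw [hs] at hr hG
  generalize 3 ^ m = s at hr hG hs3
  generalize tT m = T at hT hG
  have hq : qq m = 3 * s * s := by nlinarith
  rw [hq] at hT hG
  have hpos : 0 < (3 * s * s) ^ 3 * (3 * s * s - 1) := Nat.mul_pos (by positivity) (by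
    have : 9 ≤ s * s := Nat.mul_le_mul hs3 hs3
    rw [mul_assoc]; omega)
  have h2 : (3 * s * s + 1) * T ≤ (1 + 3 * s * s * (2 * s)) * (3 * s * s + 3 * s + 1) :=
    Nat.le_of_mul_le_mul_left (le_trans (le_of_eq (by ring)) (hG.trans (le_of_eq (by ring)))) hpos
  zify at h2 hT hs3
  have hT' : (T : ℤ) = 3 * s * s * (3 * s * s) - 3 * s * s + 1 := by linear_combination hT
  rw [hT'] at h2
  have h5 : (0 : ℤ) ≤ (s : ℤ) ^ 4 * ((s : ℤ) - 3) := mul_nonneg (by positivity) (by linarith)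
  have h6 : (0 : ℤ) ≤ (s : ℤ) ^ 5 * ((s : ℤ) - 3) := mul_nonneg (by positivity) (by linarith)
  have h7 : (0 : ℤ) ≤ (s : ℤ) ^ 3 * ((s : ℤ) - 3) := mul_nonneg (by positivity) (by linarith)
  have h8 : (0 : ℤ) ≤ (s : ℤ) ^ 2 * ((s : ℤ) - 3) := mul_nonneg (by positivity) (by linarith)
  nlinarith

lemma scB_square (k : Kˣ) : scB (K := K) m (k ^ (3 * 3 ^ m + 1)) = (k : K) ^ 2 := by
  have h : ((k : K) ^ (3 * 3 ^ m)) ^ (3 * 3 ^ m) = (k : K) ^ 3 := by
    rw [← pow_mul, show 3 * 3 ^ m * (3 * 3 ^ m) = 3 * (3 ^ m * 3 ^ m) * 3 by ring, pow_mul, pow_q hF.out]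
  rw [scB, ← pow_mul, mul_comm (3 ^ m) 3, Units.val_pow_eq_pow_val, pow_succ, mul_pow, h]
  field_simp

/-- All elements of order three of the root group. -/
theorem covered_three (hm : 1 ≤ m) {x : G K m} (hx : x ∈ setSS K m) {u v : K} (hne : (gU 0 u v : G K m) ≠ 1) :
    Covered x (gU 0 u v) := by
  by_cases hu : u = 0
  · subst hu
    exact covered_center hm hx fun h => hne (by rw [h, gU_zero])
  obtain ⟨s, w, hs, hsw⟩ := exists_covered_three hm hx
  -- change the central coordinate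
  have hshift : ∀ (s : K), s ≠ 0 → ∀ w w' : K, Covered x (gU 0 s w) → Covered x (gU 0 s w') := by
    intro s hs w w' h
    refine covered_of_isConj (isConj_iff.2 ⟨(gU ((w - w') / s) 0 0 : G K m)⁻¹, ?_⟩) h
    rw [inv_inv]
    have hval : w - s * ((w - w') / s) = w' := by field_simp; ring
    rw [mul_assoc, Cfsg.Agent.Lib.ExcDeg48.gU0_shift, hval, inv_mul_cancel_left]
  obtain ⟨k, hk⟩ : ∃ k : Kˣ, u = (k : K) ^ 2 * s ∨ u = -((k : K) ^ 2 * s) := by
    have hF4 : Fintype.card K % 4 = 3 := by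
      rw [hF.out, pow_succ, pow_mul, Nat.mul_mod, Nat.pow_mod]
      norm_num
    have hneg : ¬ IsSquare (-1 : K) := by
      rw [FiniteField.isSquare_neg_one_iff]
      omega
    have hr : u / s ≠ 0 := div_ne_zero hu hs
    rcases em (IsSquare (u / s)) with ⟨k, hk⟩ | hns
    · have hk0 : k ≠ 0 := fun h => hr (by rw [hk, h, mul_zero])
      exact ⟨Units.mk0 k hk0, Or.inl (by rw [Units.val_mk0, sq, ← hk, div_mul_cancel₀ u hs])⟩
    · obtain ⟨k, hk⟩ : IsSquare (-(u / s)) := by
        by_contra hns'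
        have h1 := quadraticChar_neg_one_iff_not_isSquare.2 hns
        have h2 := quadraticChar_neg_one_iff_not_isSquare.2 hns'
        have h3 := quadraticChar_neg_one_iff_not_isSquare.2 hneg
        rw [show -(u / s) = (-1) * (u / s) by ring, map_mul, h1, h3] at h2
        norm_num at h2
      have hk0 : k ≠ 0 := fun h => hr (by rw [← neg_eq_zero, hk, h, mul_zero])
      refine ⟨Units.mk0 k hk0, Or.inr ?_⟩
      rw [Units.val_mk0, sq, ← hk]
      field_simp
  have h1 : Covered x (gU 0 ((k : K) ^ 2 * s) ((k ^ (3 * 3 ^ m + 1) : Kˣ) * w)) := by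
    have h := covered_conj (gH (k ^ (3 * 3 ^ m + 1))) hsw
    rwa [gH_conj_gU, mul_zero, scB_square] at h
  have hks : (k : K) ^ 2 * s ≠ 0 := mul_ne_zero (pow_ne_zero _ k.ne_zero) hs
  rcases hk with rfl | rfl
  · exact hshift _ hks _ _ h1
  · have h2 := covered_inv hm hx (hshift _ hks _ (-v) h1)
    rwa [gU0_inv, neg_neg] at h2

/-- The centraliser of an element of order nine. -/
theorem card_cent_nine (hm : 1 ≤ m) {t u v : K} (ht : t ≠ 0) :
    Nat.card ↥(Subgroup.centralizer {(gU t u v : G K m)}) ≤ 3 * qq m := by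
  have h3 : (3 : K) = 0 := CharP.cast_eq_zero K 3
  set z : G K m := gU t u v
  have key : ∀ g ∈ Subgroup.centralizer {z}, ∃ t' u' v', g = gU t' u' v' ∧
      (t' = 0 ∨ t' = t ∨ t' = -t) ∧
      u' * t = (t ^ 3 ^ m) ^ 3 * t' * (t - t') + u * t' - (t' ^ 3 ^ m) ^ 3 * t * (t' - t) := by
    intro g hg
    have hc := Subgroup.mem_centralizer_singleton_iff.1 hg
    obtain ⟨t', u', v', e | e⟩ := centralizer_gU (gU_mem_U1 t u v) (ReeTori.gU_ne_one ht) hc
    · subst e
      rw [ReeTori.gU_mul, ReeTori.gU_mul] at hc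
      obtain ⟨-, h2, h3'⟩ := gU_inj hc
      refine ⟨t', u', v', rfl, ?_, by linear_combination -h3'⟩
      by_cases ht' : t' = 0
      · exact Or.inl ht'
      right
      set r := t' / t
      have hr : (r ^ 3 ^ m) ^ 3 = r := by
        simp only [r, div_pow]
        have : (t ^ 3 ^ m) ^ 3 ≠ 0 := pow_ne_zero _ (pow_ne_zero _ ht)
        field_simp
        linear_combination h2
      have hr3 : r ^ 3 = r := by
        conv_rhs => rw [← hr, ← hr]
        simp only [← pow_mul]
        rw [show 3 ^ m * 3 * 3 ^ m * 3 = 3 * (3 ^ m * 3 ^ m) * 3 by ring, pow_mul r _ 3, pow_q hF.out]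
      have hr0 : r ≠ 0 := div_ne_zero ht' ht
      have h4 : (r - 1) * (r + 1) = 0 := mul_left_cancel₀ hr0 (by linear_combination hr3)
      rcases mul_eq_zero.1 h4 with h | h
      · left; have : r = 1 := by linear_combination h
        exact (div_eq_one_iff_eq ht).1 this
      · right; have : r = -1 := by linear_combination h
        rw [div_eq_iff ht] at this
        rw [this, neg_one_mul]
    · exfalso
      subst e
      rw [mul_assoc, a_gU, ← mul_assoc, ← mul_assoc, ReeTori.gU_mul, ReeTori.gU_mul] at hc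
      obtain ⟨h1, -⟩ := small_inj hc
      exact ht (by linear_combination h1.1 + t * h3)
  choose tt uu vv hg htt huu using key
  let f : ↥(Subgroup.centralizer {z}) → ({0, t, -t} : Finset K) × K := fun g =>
    (⟨tt g.1 g.2, by rcases htt g.1 g.2 with h | h | h <;> simp [h]⟩, vv g.1 g.2)
  have hf : Function.Injective f := by
    intro a b h
    simp only [f, Prod.mk.injEq, Subtype.mk.injEq] at h
    refine Subtype.ext ((hg a.1 a.2).trans (Eq.trans ?_ (hg b.1 b.2).symm))
    have hu : uu a.1 a.2 = uu b.1 b.2 := mul_right_cancel₀ ht (by rw [huu a.1 a.2, huu b.1 b.2, h.1])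
    rw [h.1, h.2, hu]
  refine (Nat.card_le_card_of_injective f hf).trans ?_
  rw [Nat.card_prod, Nat.card_eq_finsetCard, card_K (K := K) (m := m)]
  exact Nat.mul_le_mul_right _ (Finset.card_le_three)

/-- The centraliser of an element of order six. -/
theorem card_cent_six (hm : 1 ≤ m) {g : G K m} (hg : g ∈ setS K m) :
    Nat.card ↥(Subgroup.centralizer {g}) ≤ 2 * qq m := by
  have hg6 : orderOf g = 6 := hg
  obtain ⟨c, hc⟩ := six_conj hm hg6
  set z := c * g * c⁻¹
  have hzC : z ^ 2 ∈ Subgroup.centralizer {invA K m} := by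
    rw [Subgroup.mem_centralizer_singleton_iff, ← hc]
    exact (Commute.pow_pow_self z 2 3).eq
  have hz6 : (z ^ 2) ^ 3 = 1 := by
    rw [← pow_mul, conj_pow, show g ^ (2 * 3) = 1 by rw [show 2 * 3 = 6 from rfl, ← hg6, pow_orderOf_eq_one],
      mul_one, mul_inv_cancel]
  obtain ⟨d, hd, hmem⟩ := exists_conj_subUa hzC hz6
  obtain ⟨u, hu⟩ := mem_subUa.1 hmem
  set w := d * z * d⁻¹
  have hw2 : w ^ 2 = gU 0 u 0 := by rw [← hu, conj_pow]
  have hw3 : w ^ 3 = invA K m := by
    rw [conj_pow, hc, mul_inv_eq_iff_eq_mul, (Subgroup.mem_centralizer_singleton_iff.1 hd)]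
  have hu0 : u ≠ 0 := by
    intro h
    rw [h, gU_zero] at hw2
    have : orderOf w = 6 := by rw [orderOf_conj', orderOf_conj', hg6]
    have := Nat.le_of_dvd (by norm_num) (orderOf_dvd_of_pow_eq_one hw2)
    omega
  rw [← centralizer_conj_card c g, ← centralizer_conj_card d z]
  have key : ∀ h ∈ Subgroup.centralizer {w}, ∃ (u' : K) (e : Fin 2), h = gU 0 u' 0 * gH ((-1) ^ (e : ℕ)) := by
    intro h hh
    have hc' : Commute h w := Subgroup.mem_centralizer_singleton_iff.1 hh
    have h2 : h * gU 0 u 0 = gU 0 u 0 * h := by rw [← hw2]; exact (hc'.pow_right 2).eq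
    have ha : h ∈ Subgroup.centralizer {invA K m} := by
      rw [Subgroup.mem_centralizer_singleton_iff, ← hw3]; exact (hc'.pow_right 3).eq
    have hne : (gU 0 u 0 : G K m) ≠ 1 := fun e => hu0 (by rw [← gU_zero] at e; exact (gU_inj e).2.1)
    obtain ⟨t', u', v', e⟩ := centralizer_gU (gU_mem_U1 0 u 0) hne h2
    rcases centralizer_invA_cases ha with ⟨u'', y, rfl⟩ | ⟨u'', y, u''', rfl⟩
    · rcases e with e | e
      · have e' : (gU 0 u'' 0 * gH y : G K m) = gU t' u' v' * gH 1 := by rw [map_one, mul_one]; exact e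
        obtain ⟨-, hy⟩ := small_inj e'
        exact ⟨u'', 0, by rw [hy]; simp⟩
      · obtain ⟨-, hy⟩ := small_inj e
        exact ⟨u'', 1, by rw [hy]; simp⟩
    · rcases e with e | e
      · exact absurd (e ▸ gU_mem_B1 t' u' v') (big_not_B1 (m := m) 0 u'' 0 y 0 u''' 0)
      · exact absurd (e ▸ mul_mem (gU_mem_B1 t' u' v') (gH_mem_B1 (-1))) (big_not_B1 (m := m) 0 u'' 0 y 0 u''' 0)
  choose uu ee heq using key
  refine (Nat.card_le_card_of_injective (fun h : ↥(Subgroup.centralizer {w}) => (ee h.1 h.2, uu h.1 h.2)) ?_).trans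
    (le_of_eq ?_)
  · intro a b h
    simp only [Prod.mk.injEq] at h
    exact Subtype.ext ((heq a.1 a.2).trans ((by rw [h.1, h.2] : _ = _).trans (heq b.1 b.2).symm))
  · rw [Nat.card_prod, Nat.card_fin, card_K (K := K) (m := m)]

end Cfsg.Agent.Lib.ReeCover50
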